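import Groth.Agent.Lib.EtLim24.Push
import Groth.Agent.Lib.LimH13.DescendFP
import Groth.Agent.Lib.Descend.EtaleGlobal
import Groth.Agent.Lib.Descend.Stage
import Groth.Agent.Lib.EtColim.Site

/-!
# Étale schemes over a limit come from a stage
-/

set_option autoImplicit false
set_option linter.style.haveILetI false
set_option backward.isDefEq.respectTransparency.types false

universe u

open CategoryTheory CategoryTheory.Limits AlgebraicGeometry Opposite

namespace Groth.Agent.EtLim24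

lemma bcc_hom_left_fst {A B C : Scheme.{u}} (v : A ⟶ B) (u : B ⟶ C) (w : A ⟶ C) (e : v ≫ u = w) (V : C.Etale) :
    ((bcc v u w e).hom.app V).left ≫ pullback.fst V.hom w =
      pullback.fst ((EtCoh.bc u).obj V).hom v ≫ pullback.fst V.hom u := by
  rw [← bcc_inv_left_fst v u w e V]
  exact (Category.assoc _ _ _).symm.trans ((congrArg (fun m => m ≫ _) ((comp_left' _ _).symm.trans
    (congrArg (fun m => m.left) (Iso.hom_inv_id_app (bcc v u w e) V)))).trans (Category.id_comp _))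

lemma sq_assoc {C : Type*} [Category C] {A B D E F G H : C} (a : A ⟶ B) (b : B ⟶ D) (f : D ⟶ E)
    (p : A ⟶ G) (p' : G ⟶ D) (mf : G ⟶ H) (p'' : H ⟶ E) (v : E ⟶ F) (h₁ : a ≫ b = p ≫ p')
    (h₂ : mf ≫ p'' = p' ≫ f) : a ≫ (b ≫ f) ≫ v = p ≫ mf ≫ p'' ≫ v := by
  rw [← Category.assoc mf, h₂]
  simp only [Category.assoc]
  rw [← Category.assoc a, h₁, Category.assoc]

variable {ι : Type u} [Preorder ι] {Xs : ιᵒᵖ ⥤ Scheme.{u}} {c : Cone Xs}

/-- An étale scheme `V'` over the stage `j` and a morphism to `V` whose base change maps to `W'`. -/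
structure Stg {i : ι} (V : (Xs.obj (op i)).Etale) {W' : c.pt.Etale}
    (g : W' ⟶ (EtCoh.bc (c.π.app (op i))).obj V) (j : ι) where
  le : i ≤ j
  V' : (Xs.obj (op j)).Etale
  f : V' ⟶ (EtCoh.bc (Xs.map (homOfLE le).op)).obj V
  e : (EtCoh.bc (c.π.app (op j))).obj V' ⟶ W'
  isIso_e : IsIso e.left
  comp : (e.left ≫ g.left) ≫ pullback.fst V.hom (c.π.app (op i)) =
    (pullback.fst V'.hom (c.π.app (op j)) ≫ f.left) ≫ pullback.fst V.hom (Xs.map (homOfLE le).op)

variable [IsDirected ι (· ≤ ·)] [Nonempty ι]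

theorem exists_stg (haff : ∀ ⦃a b : ιᵒᵖ⦄ (h : a ⟶ b), IsAffineHom (Xs.map h)) (hc : IsLimit c) {i : ι}
    (V : (Xs.obj (op i)).Etale) [CompactSpace V.left] [QuasiSeparatedSpace V.left] {W' : c.pt.Etale}
    [CompactSpace W'.left] [QuasiSeparatedSpace W'.left] (g : W' ⟶ (EtCoh.bc (c.π.app (op i))).obj V) :
    ∃ j, Nonempty (Stg V g j) := by
  haveI : ∀ (a b : ιᵒᵖ) (h : a ⟶ b), IsAffineHom (Xs.map h) := fun a b h => haff h
  let F := Over.forget (op i)
  let t := Descend.overT Xs (op i)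
  let c₀ : Cone (F ⋙ Xs) := c.whisker F
  have hc₀ : IsLimit c₀ := (Functor.Initial.isLimitWhiskerEquiv F c).symm hc
  have hq₀ : ∀ k, c₀.π.app k ≫ t.app k = c.π.app (op i) := fun k => c.w k.hom
  have hW : IsPullback (pullback.fst V.hom (c.π.app (op i))) (pullback.snd V.hom (c.π.app (op i))) V.hom
      (c.π.app (op i)) := IsPullback.of_hasPullback _ _
  let E := Descend.pbDiagram (F ⋙ Xs) t V.hom
  let cE := Descend.pbCone (F ⋙ Xs) t V.hom c₀ hq₀ hW
  have hE : IsLimit cE := Descend.pbIsLimit (F ⋙ Xs) t V.hom c₀ hq₀ hW hc₀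
  haveI : ∀ {a b : Over (op i)} (h : a ⟶ b), IsAffineHom (E.map h) := fun h => Descend.pb_isAffineHom_map _ _ _ h
  haveI : ∀ (a b : Over (op i)) (h : a ⟶ b), IsAffineHom (E.map h) := fun a b h => Descend.pb_isAffineHom_map _ _ _ h
  haveI : CompactSpace ↥((𝟭 Scheme).obj V.left) := ‹CompactSpace V.left›
  haveI : QuasiSeparatedSpace ↥((𝟭 Scheme).obj V.left) := ‹QuasiSeparatedSpace V.left›
  haveI : ∀ k, CompactSpace ↥(E.obj k) := fun k => Descend.pb_compactSpace _ _ _ k
  haveI : ∀ k, QuasiSeparatedSpace ↥(E.obj k) := fun k => Descend.pb_quasiSeparatedSpace _ _ _ k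
  haveI := isAffineHom_π_app _ _ hc (op i)
  haveI : IsAffineHom (pullback.fst V.hom (c.π.app (op i))) := MorphismProperty.pullback_fst _ _ inferInstance
  haveI : QuasiSeparated (pullback.fst V.hom (c.π.app (op i))) :=
    MorphismProperty.pullback_fst (P := @QuasiSeparated) V.hom (c.π.app (op i)) inferInstance
  haveI hqsW : QuasiSeparatedSpace ↥(pullback V.hom (c.π.app (op i))) :=
    quasiSeparatedSpace_of_quasiSeparated (pullback.fst V.hom (c.π.app (op i)))
  haveI : QuasiSeparatedSpace cE.pt := hqsW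
  let p : W'.left ⟶ cE.pt := g.left
  haveI : AlgebraicGeometry.Etale ((EtCoh.bc (c.π.app (op i))).obj V).hom := ((EtCoh.bc (c.π.app (op i))).obj V).prop
  haveI : AlgebraicGeometry.Etale (g.left ≫ ((EtCoh.bc (c.π.app (op i))).obj V).hom) := by
    rw [MorphismProperty.Over.w g]; exact W'.prop
  haveI hp : AlgebraicGeometry.Etale p := Etale.of_comp g.left ((EtCoh.bc (c.π.app (op i))).obj V).hom
  haveI : QuasiCompact p := inferInstance
  haveI : QuasiSeparated p := inferInstance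
  obtain ⟨k₁, Pi, pi, q, h1, h2, h3, hq⟩ := LimH13.hasModel_of_finitePresentation hE p
  haveI := h1; haveI := h2; haveI := h3
  haveI : QuasiCompact pi := (quasiCompact_iff_compactSpace pi).2 h2
  let F₁ := Over.forget k₁
  let c₁ : Cone (F₁ ⋙ E) := cE.whisker F₁
  have hc₁ : IsLimit c₁ := (Functor.Initial.isLimitWhiskerEquiv F₁ cE).symm hE
  have hw₁ : ∀ k, c₁.π.app k ≫ (Descend.overT E k₁).app k = cE.π.app k₁ := fun k => cE.w k.hom
  obtain ⟨k₂, hk₂⟩ := Descend.exists_etale (t := Descend.overT E k₁) (c := c₁) hc₁ hw₁ hq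
  obtain ⟨q', -, hq'⟩ := LimH13.isPullback_map_stage k₂.hom hq
  let k := k₂.left
  let P' := pullback pi (E.map k₂.hom)
  let pi' : P' ⟶ E.obj k := pullback.snd pi (E.map k₂.hom)
  have le : i ≤ k.left.unop := leOfHom k.hom.unop
  let u := Xs.map (homOfLE le).op
  haveI hpi' : AlgebraicGeometry.Etale pi' := hk₂
  let Vk := (EtCoh.bc u).obj V
  haveI : AlgebraicGeometry.Etale Vk.hom := Vk.prop
  haveI : AlgebraicGeometry.Etale (pullback.snd V.hom (Xs.map (homOfLE le).op)) := Vk.prop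
  let pi'' : P' ⟶ pullback V.hom (Xs.map (homOfLE le).op) := pi'
  haveI : AlgebraicGeometry.Etale pi'' := hk₂
  let V' : (Xs.obj k.left).Etale := Scheme.Etale.mk (pi'' ≫ pullback.snd V.hom (Xs.map (homOfLE le).op))
  let f : V' ⟶ Vk := MorphismProperty.Over.homMk pi'' rfl
  have hsq : IsPullback q' (p ≫ pullback.snd V.hom (c.π.app (op i)))
      (pi' ≫ pullback.snd V.hom (t.app k)) (c₀.π.app k) :=
    hq'.paste_vert (Descend.pbCone_isPullback (F ⋙ Xs) t V.hom c₀ hq₀ hW k)
  let e₀ : pullback (pi' ≫ pullback.snd V.hom (t.app k)) (c₀.π.app k) ⟶ W'.left := hsq.isoPullback.inv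
  have he : e₀ ≫ W'.hom = pullback.snd _ _ := by
    rw [← MorphismProperty.Over.w g]
    exact hsq.isoPullback_inv_snd
  let e : (EtCoh.bc (c.π.app k.left)).obj V' ⟶ W' := MorphismProperty.Over.homMk e₀ he
  refine ⟨k.left.unop, ⟨⟨le, V', f, e, inferInstanceAs (IsIso hsq.isoPullback.inv), ?_⟩⟩⟩
  show (e₀ ≫ p) ≫ pullback.fst V.hom (c.π.app (op i)) = (pullback.fst (pi' ≫ pullback.snd V.hom (t.app k))
    (c₀.π.app k) ≫ pi') ≫ pullback.fst V.hom (t.app k)
  rw [show pullback.fst (pi' ≫ pullback.snd V.hom (t.app k)) (c₀.π.app k) = e₀ ≫ q' from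
    hsq.isoPullback_inv_fst.symm, Category.assoc, Category.assoc, Category.assoc, hq'.w_assoc]
  exact congrArg (fun m => e₀ ≫ p ≫ m) (Descend.pbCone_fst (F ⋙ Xs) t V.hom c₀ hq₀ hW k).symm

variable {i j m : ι} {V : (Xs.obj (op i)).Etale} {W' : c.pt.Etale} {g : W' ⟶ (EtCoh.bc (c.π.app (op i))).obj V}

/-- At a later stage. -/
noncomputable def Stg.up (s : Stg V g j) (h : j ≤ m) : Stg V g m :=
  let u := Xs.map (homOfLE h).op
  let e₂ : Xs.map (homOfLE h).op ≫ Xs.map (homOfLE s.le).op = Xs.map (homOfLE (s.le.trans h)).op := by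
    rw [← Functor.map_comp]; rfl
  { le := s.le.trans h
    V' := (EtCoh.bc u).obj s.V'
    f := (EtCoh.bc u).map s.f ≫ (bcc u _ _ e₂).hom.app V
    e := (bcc (c.π.app (op m)) u (c.π.app (op j)) (c.w (homOfLE h).op)).hom.app s.V' ≫ s.e
    isIso_e := by
      haveI := s.isIso_e
      haveI : IsIso ((bcc (c.π.app (op m)) u (c.π.app (op j)) (c.w (homOfLE h).op)).hom.app s.V').left :=
        ((MorphismProperty.Over.forget _ _ _ ⋙ Over.forget _).mapIso
          ((bcc (c.π.app (op m)) u (c.π.app (op j)) (c.w (homOfLE h).op)).app s.V')).isIso_hom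
      rw [comp_left']
      infer_instance
    comp := by
      rw [comp_left', comp_left', Category.assoc, Category.assoc, Category.assoc, Category.assoc,
        ← Category.assoc s.e.left, s.comp]
      refine Eq.trans ?_ (congrArg (fun t => pullback.fst ((EtCoh.bc u).obj s.V').hom (c.π.app (op m)) ≫
        ((EtCoh.bc u).map s.f).left ≫ t) (bcc_hom_left_fst u _ _ e₂ V).symm)
      exact sq_assoc _ _ _ _ _ _ _ _ (bcc_hom_left_fst _ _ _ _ _) (EtCoh.isPullback_bc_map u s.f).w }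

end Groth.Agent.EtLim24
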