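import Groth.Agent.Lib.EtLim24.Sys
import Groth.Agent.Lib.EtLim24.Descend
import Mathlib.CategoryTheory.Sites.EpiMono

/-!
# Local liftings on the limit come from a stage
-/

set_option autoImplicit false
set_option linter.style.haveILetI false
set_option linter.unusedSectionVars false
set_option backward.isDefEq.respectTransparency.types false

universe u

open CategoryTheory CategoryTheory.Limits AlgebraicGeometry Opposite

namespace Groth.Agent.EtLim24

open Groth.Agent.EtStalk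

variable {ι : Type u} [Preorder ι] {Xs : ιᵒᵖ ⥤ Scheme.{u}} {c : Cone Xs}

lemma pc_inv_app {A B C : Scheme.{u}} (v : A ⟶ B) (u : B ⟶ C) (w : A ⟶ C) (e : v ≫ u = w) (G : EtCoh.Ab A)
    (V : C.Etale) (s : G.obj.obj (op ((EtCoh.bc w).obj V))) :
    ((pc v u w e).inv.app G).hom.app (op V) s = G.obj.map ((bcc v u w e).hom.app V).op s := by
  have h : ∀ z, ((pc v u w e).inv.app G).hom.app (op V) (((pc v u w e).hom.app G).hom.app (op V) z) = z := fun z =>
    congrArg (fun t : (EtCoh.push v ⋙ EtCoh.push u).obj G ⟶ (EtCoh.push v ⋙ EtCoh.push u).obj G =>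
      t.hom.app (op V) z) ((pc v u w e).hom_inv_id_app G)
  obtain ⟨z, rfl⟩ : ∃ z, G.obj.map ((bcc v u w e).inv.app V).op z = s :=
    ⟨G.obj.map ((bcc v u w e).hom.app V).op s, by
      rw [← Functor.map_comp_apply, ← op_comp, Iso.inv_hom_id_app, op_id]
      exact G.obj.map_id (op ((EtCoh.bc w).obj V)) ▸ rfl⟩
  refine (congrArg (((pc v u w e).inv.app G).hom.app (op V)) (pc_app v u w e G V z).symm).trans ((h z).trans ?_)
  rw [← Functor.map_comp_apply, ← op_comp, Iso.hom_inv_id_app, op_id]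
  exact G.obj.map_id (op ((EtCoh.bc v).obj ((EtCoh.bc u).obj V))) ▸ rfl

/-- The square of an `Stg`, as morphisms of étale schemes over the limit. -/
lemma Stg.comp_bc {i j : ι} {V : (Xs.obj (op i)).Etale} {W' : c.pt.Etale}
    {g : W' ⟶ (EtCoh.bc (c.π.app (op i))).obj V} (s : Stg V g j) :
    s.e ≫ g = (EtCoh.bc (c.π.app (op j))).map s.f ≫
      (bcc (c.π.app (op j)) (Xs.map (homOfLE s.le).op) (c.π.app (op i)) (c.w (homOfLE s.le).op)).hom.app V := by
  refine bc_hom_ext (Eq.trans ?_ (congrArg (fun t => t ≫ pullback.fst V.hom (c.π.app (op i))) (comp_left' _ _)).symm)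
  refine (congrArg (fun t => t ≫ pullback.fst V.hom (c.π.app (op i))) (comp_left' _ _)).trans ?_
  refine s.comp.trans (Eq.trans ?_ (Category.assoc _ _ _).symm)
  refine Eq.trans ?_ (congrArg (fun t => ((EtCoh.bc (c.π.app (op j))).map s.f).left ≫ t)
    (bcc_hom_left_fst _ _ _ _ V).symm)
  refine (congrArg (fun t => t ≫ _) (EtCoh.isPullback_bc_map (c.π.app (op j)) s.f).w.symm).trans ?_
  exact Category.assoc _ _ _

lemma exists_of_isPullback {A B C D : Scheme.{u}} {p : A ⟶ B} {q : A ⟶ C} {f : B ⟶ D} {g : C ⟶ D}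
    (h : IsPullback p q f g) (b : B) (c : C) (e : f b = g c) : ∃ a, q a = c := by
  obtain ⟨z, hz₁, hz₂⟩ := Scheme.Pullback.exists_preimage_pullback b c e
  refine ⟨h.isoPullback.inv z, ?_⟩
  rw [← Scheme.Hom.comp_apply, h.isoPullback_inv_snd, hz₂]

variable [IsDirected ι (· ≤ ·)] [Nonempty ι]

/-- The projection from the base change to the limit. -/
noncomputable def qpr {i j : ι} (h : i ≤ j) (V : (Xs.obj (op i)).Etale) :
    ((EtCoh.bc (c.π.app (op i))).obj V).left ⟶ ((EtCoh.bc (Xs.map (homOfLE h).op)).obj V).left :=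
  ((bcc (c.π.app (op j)) (Xs.map (homOfLE h).op) (c.π.app (op i)) (c.w (homOfLE h).op)).inv.app V).left ≫
    pullback.fst ((EtCoh.bc (Xs.map (homOfLE h).op)).obj V).hom (c.π.app (op j))

theorem exists_stage_of_lift (haff : ∀ ⦃a b : ιᵒᵖ⦄ (h : a ⟶ b), IsAffineHom (Xs.map h)) (hc : IsLimit c)
    (S : ShortComplex (EtCoh.Ab c.pt)) (hS : S.ShortExact) (i : ι) (V : (Xs.obj (op i)).Etale)
    [CompactSpace V.left] [QuasiSeparatedSpace V.left]
    (s : ((EtCoh.push (pr Xs c i)).obj S.X₃).obj.obj (op V)) :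
      ∃ (j : ι) (h : i ≤ j) (y : ((EtCoh.push (pr Xs c j)).obj S.X₃).obj.obj (op ((EtCoh.bc (uM Xs h)).obj V))),
        ((pc (pr Xs c j) (uM Xs h) (pr Xs c i) (pr_w h)).hom.app S.X₃).hom.app (op V) y = s ∧
        ∀ v : ((EtCoh.bc (uM Xs h)).obj V).left, ∃ (V' : (Xs.obj (op j)).Etale) (f : V' ⟶ (EtCoh.bc (uM Xs h)).obj V),
          v ∈ Set.range f.left.base ∧ ∃ t : ((EtCoh.push (pr Xs c j)).obj S.X₂).obj.obj (op V'),
            ((EtCoh.push (pr Xs c j)).map S.g).hom.app (op V') t =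
              ((EtCoh.push (pr Xs c j)).obj S.X₃).obj.map f.op y := by
  classical
  haveI : ∀ (a b : ιᵒᵖ) (h : a ⟶ b), IsAffineHom (Xs.map h) := fun a b h => haff h
  let W := (EtCoh.bc (c.π.app (op i))).obj V
  let s' : S.X₃.obj.obj (op W) := s
  haveI := hS.epi_g
  haveI hls : Sheaf.IsLocallySurjective S.g := (Sheaf.isLocallySurjective_iff_epi' _ S.g).2 inferInstance
  have hR := Presheaf.imageSieve_mem c.pt.smallEtaleTopology S.g.hom (U := op W) s'
  rw [EtSite.mem_et_iff] at hR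
  have hloc : ∀ w : W.left, ∃ (Y : c.pt.Etale) (g : Y ⟶ W) (_ : IsAffine Y.left),
      w ∈ Set.range g.left.base ∧ ∃ t : S.X₂.obj.obj (op Y), S.g.hom.app (op Y) t = S.X₃.obj.map g.op s' := by
    intro w
    obtain ⟨Y, g, y, ⟨t, ht⟩, hy⟩ := hR w
    obtain ⟨U, hU, hyU, -⟩ := exists_isAffineOpen_mem_and_subset (X := Y.left) (x := y) (U := ⊤) trivial
    refine ⟨EtSite.sub Y U, EtSite.subHom Y U ≫ g, hU, ⟨(⟨y, hyU⟩ : U), hy⟩,
      S.X₂.obj.map (EtSite.subHom Y U).op t, ?_⟩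
    rw [NatTrans.naturality_apply S.g.hom (EtSite.subHom Y U).op t, op_comp, Functor.map_comp_apply]
    exact congrArg _ ht
  choose Y g hY hw t ht using hloc
  haveI := fun w => hY w
  have hopen : ∀ {Z : Scheme.{u}} {A B : Z.Etale} (m : A ⟶ B), IsOpen (Set.range m.left.base) := by
    intro Z A B m
    haveI : AlgebraicGeometry.Etale B.hom := B.prop
    haveI : AlgebraicGeometry.Etale (m.left ≫ B.hom) := by rw [MorphismProperty.Over.w m]; exact A.prop
    haveI := Etale.of_comp m.left B.hom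
    exact m.left.isOpenMap.isOpen_range
  haveI : CompactSpace ↥W.left := by
    haveI := isAffineHom_π_app _ _ hc (op i)
    haveI : IsAffineHom (pullback.fst V.hom (c.π.app (op i))) := MorphismProperty.pullback_fst _ _ inferInstance
    haveI : CompactSpace ↥((𝟭 Scheme).obj V.left) := ‹CompactSpace V.left›
    haveI : QuasiCompact (pullback.fst V.hom (c.π.app (op i))) :=
      MorphismProperty.pullback_fst (P := @QuasiCompact) V.hom (c.π.app (op i)) inferInstance
    haveI hcW : CompactSpace ↥(pullback V.hom (c.π.app (op i))) :=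
      QuasiCompact.compactSpace_of_compactSpace (pullback.fst V.hom (c.π.app (op i)))
    exact hcW
  obtain ⟨A, hA⟩ := isCompact_univ.elim_finite_subcover (fun w => Set.range (g w).left.base) (fun w => hopen _)
    (fun w _ => Set.mem_iUnion.2 ⟨w, hw w⟩)
  have hst : ∀ w, ∃ j, Nonempty (Stg V (g w) j) := fun w => exists_stg haff hc V (g w)
  choose j hj using hst
  obtain ⟨j₁, hj₁⟩ := Finset.exists_le (insert i (A.image j))
  have hij : i ≤ j₁ := hj₁ i (Finset.mem_insert_self _ _)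
  let St : ∀ w : A, Stg V (g w.1) j₁ := fun w =>
    (hj w.1).some.up (hj₁ _ (Finset.mem_insert_of_mem (Finset.mem_image_of_mem j w.2)))
  let Vj := (EtCoh.bc (Xs.map (homOfLE hij).op)).obj V
  let O : Vj.left.Opens :=
    ⟨⋃ w : A, Set.range (show (St w).V'.left ⟶ Vj.left from (St w).f.left).base,
      isOpen_iUnion fun w => hopen (St w).f⟩
  let F := Over.forget (op i)
  let tt := Descend.overT Xs (op i)
  let c₀ : Cone (F ⋙ Xs) := c.whisker F
  have hc₀ : IsLimit c₀ := (Functor.Initial.isLimitWhiskerEquiv F c).symm hc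
  have hq₀ : ∀ k, c₀.π.app k ≫ tt.app k = c.π.app (op i) := fun k => c.w k.hom
  have hW : IsPullback (pullback.fst V.hom (c.π.app (op i))) (pullback.snd V.hom (c.π.app (op i))) V.hom
      (c.π.app (op i)) := IsPullback.of_hasPullback _ _
  let E := Descend.pbDiagram (F ⋙ Xs) tt V.hom
  let cE := Descend.pbCone (F ⋙ Xs) tt V.hom c₀ hq₀ hW
  have hE : IsLimit cE := Descend.pbIsLimit (F ⋙ Xs) tt V.hom c₀ hq₀ hW hc₀
  haveI : CompactSpace ↥((𝟭 Scheme).obj V.left) := ‹CompactSpace V.left›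
  haveI : ∀ {a b : Over (op i)} (h : a ⟶ b), IsAffineHom (E.map h) := fun h => Descend.pb_isAffineHom_map _ _ _ h
  haveI : ∀ k, CompactSpace ↥(E.obj k) := fun k => Descend.pb_compactSpace _ _ _ k
  let k₁ : Over (op i) := Over.mk (homOfLE hij).op
  have hq : cE.π.app k₁ = qpr hij V := by
    refine pullback.hom_ext ?_ ?_
    · refine (Descend.pbCone_fst (F ⋙ Xs) tt V.hom c₀ hq₀ hW k₁).trans ?_
      exact (bcc_inv_left_fst _ _ _ (c.w (homOfLE hij).op) V).symm.trans (Category.assoc _ _ _).symm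
    · refine (Descend.pbCone_snd (F ⋙ Xs) tt V.hom c₀ hq₀ hW k₁).trans ?_
      exact (left_fst_hom ((bcc (c.π.app (op j₁)) (Xs.map (homOfLE hij).op) (c.π.app (op i))
        (c.w (homOfLE hij).op)).inv.app V)).symm
  have hO : cE.π.app k₁ ⁻¹ᵁ (show (E.obj k₁).Opens from O) = ⊤ := by
    rw [← top_le_iff]
    intro (x : W.left) _
    obtain ⟨w, hwA, z, hz⟩ := Set.mem_iUnion₂.1 (hA (Set.mem_univ x))
    let σ := St ⟨w, hwA⟩
    haveI := σ.isIso_e
    obtain ⟨z', rfl⟩ : ∃ z', σ.e.left z' = z := ⟨inv σ.e.left z, by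
      rw [← Scheme.Hom.comp_apply, IsIso.inv_hom_id]; rfl⟩
    show cE.π.app k₁ x ∈ O
    rw [hq]
    refine Set.mem_iUnion.2 ⟨⟨w, hwA⟩, pullback.fst σ.V'.hom (c.π.app (op j₁)) z', ?_⟩
    rw [← hz]
    show (pullback.fst σ.V'.hom (c.π.app (op j₁)) ≫ σ.f.left) z' = ((σ.e.left ≫ (g w).left) ≫ qpr hij V) z'
    refine congrArg (fun m : ((EtCoh.bc (c.π.app (op j₁))).obj σ.V').left ⟶ Vj.left => m z') ?_
    have h1 : (σ.e ≫ g w) ≫ (bcc (c.π.app (op j₁)) (Xs.map (homOfLE hij).op) (c.π.app (op i))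
        (c.w (homOfLE hij).op)).inv.app V = (EtCoh.bc (c.π.app (op j₁))).map σ.f := by
      rw [Stg.comp_bc, Category.assoc, Iso.hom_inv_id_app]
      exact Category.comp_id _
    refine (EtCoh.isPullback_bc_map (c.π.app (op j₁)) σ.f).w.symm.trans ?_
    rw [qpr, ← h1]
    simp only [Category.assoc]
    rfl
  obtain ⟨k₂, a, ha⟩ := exists_map_eq_top E cE hE (i := k₁) _ hO
  let m := k₂.left.unop
  have h₁₂ : j₁ ≤ m := leOfHom a.left.unop
  have him : i ≤ m := hij.trans h₁₂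
  let y : ((EtCoh.push (pr Xs c m)).obj S.X₃).obj.obj (op ((EtCoh.bc (uM Xs him)).obj V)) :=
    ((pc (pr Xs c m) (uM Xs him) (pr Xs c i) (pr_w him)).inv.app S.X₃).hom.app (op V) s
  refine ⟨m, him, y, ?_, fun v => ?_⟩
  · exact congrArg (fun r : (EtCoh.push (pr Xs c i)).obj S.X₃ ⟶ (EtCoh.push (pr Xs c i)).obj S.X₃ =>
      r.hom.app (op V) s) ((pc (pr Xs c m) (uM Xs him) (pr Xs c i) (pr_w him)).inv_hom_id_app S.X₃)
  let u₂ := Xs.map (homOfLE h₁₂).op
  have e₂ : Xs.map (homOfLE h₁₂).op ≫ Xs.map (homOfLE hij).op = Xs.map (homOfLE him).op := by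
    rw [← Functor.map_comp]; rfl
  let θ := (bcc u₂ (Xs.map (homOfLE hij).op) _ e₂).app V
  let v' := θ.inv.left v
  have hm : θ.inv.left ≫ pullback.fst Vj.hom u₂ = E.map a := by
    refine pullback.hom_ext ?_ ?_
    · refine Eq.trans ?_ (Descend.pbMap_fst (F ⋙ Xs) tt V.hom a).symm
      exact (Category.assoc _ _ _).trans (bcc_inv_left_fst _ _ _ e₂ V)
    · refine Eq.trans ?_ (Descend.pbMap_snd (F ⋙ Xs) tt V.hom a).symm
      exact left_fst_hom θ.inv
  have hv : pullback.fst Vj.hom u₂ v' ∈ O := by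
    rw [show pullback.fst Vj.hom u₂ v' = E.map a v from
      congrArg (fun r : ((EtCoh.bc (Xs.map (homOfLE him).op)).obj V).left ⟶ Vj.left => r v) hm]
    exact (ha.ge (Set.mem_univ v) : _)
  obtain ⟨w, x, hx⟩ := Set.mem_iUnion.1 hv
  let σ := St w
  obtain ⟨x', hx'⟩ := exists_of_isPullback (EtCoh.isPullback_bc_map u₂ σ.f).flip x v' hx
  let σ' := σ.up h₁₂
  refine ⟨σ'.V', σ'.f, ⟨x', ?_⟩, S.X₂.obj.map σ'.e.op (t w.1), ?_⟩
  · show (((EtCoh.bc u₂).map σ.f) ≫ θ.hom).left x' = v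
    rw [comp_left', Scheme.Hom.comp_apply]
    refine (congrArg θ.hom.left hx').trans ?_
    show θ.hom.left (θ.inv.left v) = v
    rw [← Scheme.Hom.comp_apply, ← comp_left', Iso.inv_hom_id]
    rfl
  · show S.g.hom.app (op ((EtCoh.bc (pr Xs c m)).obj σ'.V')) (S.X₂.obj.map σ'.e.op (t w.1)) =
      S.X₃.obj.map ((EtCoh.bc (pr Xs c m)).map σ'.f).op y
    rw [NatTrans.naturality_apply S.g.hom σ'.e.op (t w.1), ht w.1]
    show S.X₃.obj.map σ'.e.op (S.X₃.obj.map (g w.1).op s') = _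
    rw [show y = _ from pc_inv_app (pr Xs c m) (uM Xs him) (pr Xs c i) (pr_w him) S.X₃ V s,
      ← Functor.map_comp_apply]
    refine Eq.trans ?_ (Functor.map_comp_apply S.X₃.obj _ _ _)
    rw [← op_comp, ← op_comp, σ'.comp_bc]

end Groth.Agent.EtLim24
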