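import Groth.Agent.Lib.EtLim24.Main
import Groth.Agent.Lib.EtLim24.Covers

/-!
# Étale cohomology of a limit of schemes
-/

set_option autoImplicit false
set_option backward.isDefEq.respectTransparency.types false

universe u

open CategoryTheory CategoryTheory.Limits AlgebraicGeometry Opposite CategoryTheory.Abelian

namespace Groth.Agent.EtLim24

lemma pc_inv_eq {A B C : Scheme.{u}} (v : A ⟶ B) (u : B ⟶ C) (w : A ⟶ C) (e : v ≫ u = w) (G : EtCoh.Ab A) :
    (pc v u w e).inv.app G = ((EtCoh.pushCongr e.symm).app G).hom ≫ (EtCoh.pushComp u v).inv.app G := by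
  subst e
  simp [pc, Iso.app, EtAcyc24.pushCongr_refl_hom]
  show (EtCoh.pushCongr (rfl : v ≫ u = v ≫ u)).inv.app G ≫ _ = _
  rw [show (EtCoh.pushCongr (rfl : v ≫ u = v ≫ u)).inv.app G = 𝟙 _ from by
    rw [← cancel_mono ((EtCoh.pushCongr (rfl : v ≫ u = v ≫ u)).hom.app G), Iso.inv_hom_id_app, Category.id_comp,
      EtAcyc24.pushCongr_refl_hom]]
  exact Category.id_comp _

variable {ι : Type u} [Preorder ι] [IsDirected ι (· ≤ ·)] [Nonempty ι] {Xs : ιᵒᵖ ⥤ Scheme.{u}} {c : Cone Xs}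
  [∀ i : ι, CompactSpace ↥(Xs.obj (op i))] [∀ i : ι, QuasiSeparatedSpace ↥(Xs.obj (op i))]

theorem hasCovers (haff : ∀ ⦃a b : ιᵒᵖ⦄ (h : a ⟶ b), IsAffineHom (Xs.map h)) (hc : IsLimit c) :
    HasCovers Xs c :=
  fun S hS i V hV hV' s => by
    haveI := hV; haveI := hV'
    exact exists_stage_of_lift haff hc S hS i V s

variable [∀ a, PreservesFiniteLimits (EtCoh.pull (c.π.app a))]
  [∀ ⦃a b : ιᵒᵖ⦄ (h : a ⟶ b), PreservesFiniteLimits (EtCoh.pull (Xs.map h))]

/-- The limit theorem for a system of sheaves. -/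
theorem limit_good (haff : ∀ ⦃a b : ιᵒᵖ⦄ (h : a ⟶ b), IsAffineHom (Xs.map h)) (hc : IsLimit c)
    (S : Sys Xs c) (hS : S.IsLim) (n : ℕ) : S.Good n :=
  good (hasCovers haff hc) S hS n

/-- The limit theorem for the direct images of a sheaf. -/
theorem limit_can (haff : ∀ ⦃a b : ιᵒᵖ⦄ (h : a ⟶ b), IsAffineHom (Xs.map h)) (hc : IsLimit c)
    (G : EtCoh.Ab c.pt) (n : ℕ) : (can Xs c G).Good n :=
  good_can (hasCovers haff hc) n G

/-- Vanishing passes to the limit. -/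
theorem subsingleton_of_stages (haff : ∀ ⦃a b : ιᵒᵖ⦄ (h : a ⟶ b), IsAffineHom (Xs.map h)) (hc : IsLimit c)
    (G : EtCoh.Ab c.pt) (n : ℕ)
    (h : ∀ i : ι, Subsingleton (EtCoh.H (Xs.obj (op i)) ((EtCoh.push (c.π.app (op i))).obj G) n)) :
    Subsingleton (EtCoh.H c.pt G n) := by
  refine subsingleton_of_forall_eq 0 fun ξ => ?_
  obtain ⟨i, x, rfl⟩ := (limit_can haff hc G n).1 ξ
  rw [can_A, @Subsingleton.elim _ (h i) x 0, map_zero]

end Groth.Agent.EtLim24
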