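import Groth.Agent.Lib.EtColim.Torsion

/-!
# Direct images of torsion sheaves
-/

set_option autoImplicit false
set_option linter.style.haveILetI false

universe u

open CategoryTheory CategoryTheory.Limits AlgebraicGeometry Opposite

namespace Groth.Agent.EtLim24

/-- Direct images of torsion sheaves along quasi-compact quasi-separated morphisms are torsion. -/
theorem isTorsion_push {X Y : Scheme.{u}} (f : X ⟶ Y) [QuasiCompact f] [QuasiSeparated f] {F : EtCoh.Ab X}
    (hF : EtCoh.IsTorsion F) : EtCoh.IsTorsion ((EtCoh.push f).obj F) := by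
  haveI : (EtCoh.push f).IsRightAdjoint := (EtCoh.pullPushAdj f).isRightAdjoint
  exact EtColim.isTorsion_of_iso ((EtCoh.push f).rightDerivedZeroIsoSelf.app F) (EtColim.isTorsion_Rpush f hF 0)

end Groth.Agent.EtLim24
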