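import Groth.Agent.Lib.EtStalk.HofPush
import Groth.Agent.Lib.FieldH25.Transfer
import Groth.Agent.Lib.EtAcyc24.Criterion
import Groth.Agent.Lib.LocAcyc24.TorsionConst
import Groth.Prelude.Def_EtLim

/-!
# Composites of direct images
-/

set_option autoImplicit false
set_option backward.isDefEq.respectTransparency.types false

universe u

open CategoryTheory CategoryTheory.Limits AlgebraicGeometry Opposite CategoryTheory.Abelian

namespace Groth.Agent.EtLim24

open Groth.Agent.EtStalk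

variable {A B C D : Scheme.{u}}

/-- Direct images along a composite. -/
noncomputable def pc (v : A ⟶ B) (u : B ⟶ C) (w : A ⟶ C) (e : v ≫ u = w) :
    EtCoh.push v ⋙ EtCoh.push u ≅ EtCoh.push w :=
  EtCoh.pushComp u v ≪≫ EtCoh.pushCongr e

/-- The base change functors of a composite. -/
noncomputable def bcc (v : A ⟶ B) (u : B ⟶ C) (w : A ⟶ C) (e : v ≫ u = w) :
    EtCoh.bc u ⋙ EtCoh.bc v ≅ EtCoh.bc w :=
  (MorphismProperty.Over.pullbackComp (P := EtCoh.etaleMP) (Q := ⊤) v u).symm ≪≫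
    MorphismProperty.Over.pullbackCongr (P := EtCoh.etaleMP) (Q := ⊤) e

lemma pc_app (v : A ⟶ B) (u : B ⟶ C) (w : A ⟶ C) (e : v ≫ u = w) (G : EtCoh.Ab A) (V : C.Etale)
    (s : G.obj.obj (op ((EtCoh.bc v).obj ((EtCoh.bc u).obj V)))) :
    ((pc v u w e).hom.app G).hom.app (op V) s = G.obj.map ((bcc v u w e).inv.app V).op s := by
  simp only [bcc, Iso.trans_inv, NatTrans.comp_app, op_comp, Functor.map_comp_apply]
  rfl

lemma bcc_inv_left_fst (v : A ⟶ B) (u : B ⟶ C) (w : A ⟶ C) (e : v ≫ u = w) (V : C.Etale) :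
    ((bcc v u w e).inv.app V).left ≫ pullback.fst ((EtCoh.bc u).obj V).hom v ≫ pullback.fst V.hom u =
      pullback.fst V.hom w := by
  subst e
  simp [bcc, MorphismProperty.Over.pullbackComp, MorphismProperty.Over.pullbackCongr]
  show ((pullback.congrHom (rfl : V.hom = V.hom) (rfl : v ≫ u = v ≫ u)).inv ≫ ((pullback.congrHom (rfl : V.hom = V.hom) (rfl : v ≫ u = v ≫ u)).hom ≫ (pullbackLeftPullbackSndIso V.hom u v).inv)) ≫
    pullback.fst (pullback.snd V.hom u) v ≫ pullback.fst V.hom u = _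
  simp

lemma bc_hom_ext {v : A ⟶ B} {V : B.Etale} {W : A.Etale} {a b : W ⟶ (EtCoh.bc v).obj V}
    (h : a.left ≫ pullback.fst V.hom v = b.left ≫ pullback.fst V.hom v) : a = b := by
  refine MorphismProperty.Over.Hom.ext (pullback.hom_ext h ?_)
  exact (MorphismProperty.Over.w a).trans (MorphismProperty.Over.w b).symm

lemma fst_hom {v : A ⟶ B} (V : B.Etale) :
    pullback.fst V.hom v ≫ V.hom = ((EtCoh.bc v).obj V).hom ≫ v :=
  pullback.condition

lemma left_ext {v : A ⟶ B} {V : B.Etale} {T : Scheme.{u}} {p q : T ⟶ ((EtCoh.bc v).obj V).left}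
    (h : p ≫ pullback.fst V.hom v = q ≫ pullback.fst V.hom v)
    (h' : p ≫ ((EtCoh.bc v).obj V).hom = q ≫ ((EtCoh.bc v).obj V).hom) : p = q :=
  pullback.hom_ext h h'

lemma left_fst_hom {x : A ⟶ B} {V : B.Etale} {W : A.Etale} (a : W ⟶ (EtCoh.bc x).obj V) :
    (a.left ≫ pullback.fst V.hom x) ≫ V.hom = W.hom ≫ x :=
  (Category.assoc _ _ _).trans ((congrArg (a.left ≫ ·) (fst_hom V)).trans
    ((Category.assoc _ _ _).symm.trans (congrArg (· ≫ x) (MorphismProperty.Over.w a))))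

lemma bc_hom_ext₂ {x : A ⟶ B} {v : B ⟶ C} {V : C.Etale} {W : A.Etale}
    {a b : W ⟶ (EtCoh.bc x).obj ((EtCoh.bc v).obj V)}
    (h : a.left ≫ pullback.fst ((EtCoh.bc v).obj V).hom x ≫ pullback.fst V.hom v =
      b.left ≫ pullback.fst ((EtCoh.bc v).obj V).hom x ≫ pullback.fst V.hom v) : a = b :=
  bc_hom_ext (left_ext ((Category.assoc _ _ _).trans (h.trans (Category.assoc _ _ _).symm))
    ((left_fst_hom a).trans (left_fst_hom b).symm))

lemma left_fst_fst_hom {x : A ⟶ B} {v : B ⟶ C} {V : C.Etale} {W : A.Etale}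
    (a : W ⟶ (EtCoh.bc x).obj ((EtCoh.bc v).obj V)) :
    ((a.left ≫ pullback.fst ((EtCoh.bc v).obj V).hom x) ≫ pullback.fst V.hom v) ≫ V.hom = W.hom ≫ x ≫ v :=
  (Category.assoc _ _ _).trans ((congrArg (fun t => (a.left ≫ pullback.fst ((EtCoh.bc v).obj V).hom x) ≫ t)
    (fst_hom V)).trans ((Category.assoc _ _ _).symm.trans
      ((congrArg (· ≫ v) (left_fst_hom a)).trans (Category.assoc _ _ _))))

lemma bc_hom_ext₃ {x : A ⟶ B} {v : B ⟶ C} {u : C ⟶ D} {V : D.Etale} {W : A.Etale}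
    {a b : W ⟶ (EtCoh.bc x).obj ((EtCoh.bc v).obj ((EtCoh.bc u).obj V))}
    (h : a.left ≫ pullback.fst ((EtCoh.bc v).obj ((EtCoh.bc u).obj V)).hom x ≫
        pullback.fst ((EtCoh.bc u).obj V).hom v ≫ pullback.fst V.hom u =
      b.left ≫ pullback.fst ((EtCoh.bc v).obj ((EtCoh.bc u).obj V)).hom x ≫
        pullback.fst ((EtCoh.bc u).obj V).hom v ≫ pullback.fst V.hom u) : a = b :=
  bc_hom_ext₂ ((Category.assoc _ _ _).symm.trans ((left_ext (by simpa only [Category.assoc] using h)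
    ((left_fst_fst_hom a).trans (left_fst_fst_hom b).symm)).trans (Category.assoc _ _ _)))

lemma comp_left' {W W' W'' : A.Etale} (a : W ⟶ W') (b : W' ⟶ W'') : (a ≫ b).left = a.left ≫ b.left := rfl

/-- Associativity. -/
lemma pc_assoc (x : A ⟶ B) (v : B ⟶ C) (u : C ⟶ D) (xv : A ⟶ C) (vu : B ⟶ D) (w : A ⟶ D)
    (h₁ : x ≫ v = xv) (h₂ : v ≫ u = vu) (h₃ : xv ≫ u = w) (h₄ : x ≫ vu = w) (G : EtCoh.Ab A) :
    (EtCoh.push u).map ((pc x v xv h₁).hom.app G) ≫ (pc xv u w h₃).hom.app G =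
      (pc v u vu h₂).hom.app ((EtCoh.push x).obj G) ≫ (pc x vu w h₄).hom.app G := by
  refine Sheaf.hom_ext (NatTrans.ext (funext fun V => ?_))
  obtain ⟨V⟩ := V
  refine AddCommGrpCat.ext fun s => ?_
  show ((pc xv u w h₃).hom.app G).hom.app (op V)
      (((pc x v xv h₁).hom.app G).hom.app (op ((EtCoh.bc u).obj V)) s) =
    ((pc x vu w h₄).hom.app G).hom.app (op V) (((pc v u vu h₂).hom.app ((EtCoh.push x).obj G)).hom.app (op V) s)
  rw [pc_app, pc_app, pc_app, pc_app]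
  show G.obj.map _ (G.obj.map _ s) = G.obj.map _ (G.obj.map ((EtCoh.bc x).map _).op s)
  rw [← Functor.map_comp_apply, ← Functor.map_comp_apply, ← op_comp, ← op_comp]
  congr 3
  refine congrArg Quiver.Hom.op ?_
  apply bc_hom_ext₃
  refine Eq.trans ?_ (Eq.trans (bcc_inv_left_fst xv u w h₃ V) (Eq.trans (bcc_inv_left_fst x vu w h₄ V).symm ?_))
  · exact (congrArg (· ≫ _) (comp_left' _ _)).trans ((Category.assoc _ _ _).trans
      (congrArg (((bcc xv u w h₃).inv.app V).left ≫ ·)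
        (((congrArg (((bcc x v xv h₁).inv.app ((EtCoh.bc u).obj V)).left ≫ ·)
          (Category.assoc _ _ _).symm).trans (Category.assoc _ _ _).symm).trans
          (congrArg (· ≫ pullback.fst V.hom u) (bcc_inv_left_fst x v xv h₁ ((EtCoh.bc u).obj V))))))
  · refine Eq.trans ?_ (congrArg (· ≫ _) (comp_left' _ _)).symm
    refine Eq.trans ?_ (Category.assoc _ _ _).symm
    refine congrArg (((bcc x vu w h₄).inv.app V).left ≫ ·) ?_
    refine Eq.trans ?_ (Category.assoc _ _ _)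
    refine Eq.trans (congrArg (pullback.fst ((EtCoh.bc vu).obj V).hom x ≫ ·)
      (bcc_inv_left_fst v u vu h₂ V).symm) ?_
    exact (Category.assoc _ _ _).symm.trans (congrArg (· ≫ _)
      (EtCoh.isPullback_bc_map x ((bcc v u vu h₂).inv.app V)).w.symm)

variable (u : B ⟶ C) (v : A ⟶ B) [PreservesFiniteLimits (EtCoh.pull u)] [PreservesFiniteLimits (EtCoh.pull v)]

lemma HofPush_congr {w w' : A ⟶ C} (e : w = w') [PreservesFiniteLimits (EtCoh.pull w)]
    [PreservesFiniteLimits (EtCoh.pull w')] (G : EtCoh.Ab A) (n : ℕ)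
    (x : EtCoh.H C ((EtCoh.push w).obj G) n) :
    EtLim.HofPush w' G n (x.comp (Ext.mk₀ ((EtCoh.pushCongr e).hom.app G)) (add_zero n)) =
      EtLim.HofPush w G n x := by
  subst e
  rw [EtAcyc24.pushCongr_refl_hom, Ext.comp_mk₀_id]

lemma counit_sq {C₁ C₂ : Type*} [Category C₁] [Category C₂] {L : C₁ ⥤ C₂} {R : C₂ ⥤ C₁} (adj : L ⊣ R)
    {P P' : C₁} {Q Q' : C₂} (a : P ⟶ R.obj Q) (b : Q ⟶ Q') (a' : P' ⟶ R.obj Q') (s : P ⟶ P')
    (h : a ≫ R.map b = s ≫ a') : (L.map a ≫ adj.counit.app Q) ≫ b = L.map s ≫ L.map a' ≫ adj.counit.app Q' := by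
  rw [← L.map_comp_assoc, ← h, L.map_comp]
  simp

lemma HofPush_eq (f : B ⟶ C) [PreservesFiniteLimits (EtCoh.pull f)] (G : EtCoh.Ab B) (n : ℕ)
    (x : EtCoh.H C ((EtCoh.push f).obj G) n) :
    EtLim.HofPush f G n x = (EtCore.Hpull f ((EtCoh.push f).obj G) n x).comp
      (Ext.mk₀ ((EtCoh.pullPushAdj f).counit.app G)) (add_zero n) := rfl

lemma pullComp_counit (G : EtCoh.Ab A) :
    (EtCore.pullComp v u).inv.app ((EtCoh.push u).obj ((EtCoh.push v).obj G)) ≫
        (EtCoh.pull (v ≫ u)).map ((EtCoh.pushComp u v).hom.app G) ≫ (EtCoh.pullPushAdj (v ≫ u)).counit.app G =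
      (EtCoh.pull v).map ((EtCoh.pullPushAdj u).counit.app ((EtCoh.push v).obj G)) ≫
        (EtCoh.pullPushAdj v).counit.app G := by
  let adj' := ((EtCoh.pullPushAdj u).comp (EtCoh.pullPushAdj v)).ofNatIsoRight (EtCoh.pushComp u v)
  have h := Adjunction.leftAdjointUniq_hom_app_counit adj' (EtCoh.pullPushAdj (v ≫ u)) G
  have hn := (EtCore.pullComp v u).inv.naturality ((EtCoh.pushComp u v).hom.app G)
  rw [← Category.assoc]
  erw [← hn]
  rw [Category.assoc]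
  refine (congrArg (fun t => _ ≫ t) h).trans ?_
  simp [adj', Adjunction.ofNatIsoRight, Adjunction.comp, Adjunction.homEquiv_counit,
    Adjunction.equivHomsetRightOfNatIso]

lemma HofPush_pushComp [PreservesFiniteLimits (EtCoh.pull (v ≫ u))] (G : EtCoh.Ab A) (n : ℕ)
    (x : EtCoh.H C ((EtCoh.push u).obj ((EtCoh.push v).obj G)) n) :
    EtLim.HofPush (v ≫ u) G n (x.comp (Ext.mk₀ ((EtCoh.pushComp u v).hom.app G)) (add_zero n)) =
      EtLim.HofPush v G n (EtLim.HofPush u ((EtCoh.push v).obj G) n x) := by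
  rw [HofPush_eq, HofPush_eq v, HofPush_eq u, ← LocAcyc24.Hpull_nat (v ≫ u), ← LocAcyc24.Hpull_nat v,
    ← FieldH25.Hpull_comp v u]
  simp only [Ext.comp_assoc_of_third_deg_zero, Ext.mk₀_comp_mk₀]
  exact congrArg (fun t => (EtCore.Hpull v _ n (EtCore.Hpull u _ n x)).comp (Ext.mk₀ t) (add_zero n))
    (pullComp_counit u v G)

/-- The maps to cohomology along a composite. -/
lemma HofPush_pc (w : A ⟶ C) (e : v ≫ u = w) [PreservesFiniteLimits (EtCoh.pull w)] (G : EtCoh.Ab A) (n : ℕ)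
    (x : EtCoh.H C ((EtCoh.push u).obj ((EtCoh.push v).obj G)) n) :
    EtLim.HofPush w G n (x.comp (Ext.mk₀ ((pc v u w e).hom.app G)) (add_zero n)) =
      EtLim.HofPush v G n (EtLim.HofPush u ((EtCoh.push v).obj G) n x) := by
  haveI : PreservesFiniteLimits (EtCoh.pull (v ≫ u)) := by rw [e]; infer_instance
  rw [← HofPush_pushComp u v G n x, ← HofPush_congr e G n, Ext.comp_assoc_of_third_deg_zero, Ext.mk₀_comp_mk₀]
  rfl

lemma ext_connect {C₁ C₂ : Type*} [Category C₁] [Category C₂] [Abelian C₁] [Abelian C₂] [HasExt.{u + 1} C₁]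
    [HasExt.{u + 1} C₂] (L : C₁ ⥤ C₂) [L.Additive] [PreservesFiniteLimits L] [PreservesFiniteColimits L]
    {Z : C₂} {Z₀ : C₁} (c : Ext Z (L.obj Z₀) 0) {S : ShortComplex C₁} (hS : S.ShortExact)
    {S' : ShortComplex C₂} (hS' : S'.ShortExact) (ψ : S.map L ⟶ S') (n : ℕ) (z : Ext Z₀ S.X₃ n) :
    c.comp (((z.comp hS.extClass rfl).mapExactFunctor L).comp (Ext.mk₀ ψ.τ₁) (add_zero (n + 1)))
        (zero_add (n + 1)) =
      (c.comp ((z.mapExactFunctor L).comp (Ext.mk₀ ψ.τ₃) (add_zero n)) (zero_add n)).comp hS'.extClass rfl := by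
  have hn := ShortComplex.ShortExact.extClass_naturality (hS.map_of_exact L) hS' ψ
  rw [Ext.mapExactFunctor_comp, Ext.mapExactFunctor_extClass L hS, Ext.comp_assoc_of_third_deg_zero]
  erw [hn]
  exact (congrArg (fun t => c.comp t (zero_add (n + 1)))
    (Ext.comp_assoc (z.mapExactFunctor L) _ hS'.extClass (add_zero n) (zero_add 1) (by lia)).symm).trans
    (Ext.comp_assoc c _ hS'.extClass (zero_add n) rfl (by lia)).symm

lemma HofPush_mk₀ {M : EtCoh.Ab C} (G : EtCoh.Ab B) (a : M ⟶ (EtCoh.push u).obj G) (n : ℕ)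
    (x : EtCoh.H C M n) :
    EtLim.HofPush u G n (x.comp (Ext.mk₀ a) (add_zero n)) =
      (Ext.mk₀ (EtCore.pullConst u ℤ).inv).comp ((x.mapExactFunctor (EtCoh.pull u)).comp
        (Ext.mk₀ ((EtCoh.pull u).map a ≫ (EtCoh.pullPushAdj u).counit.app G)) (add_zero n)) (zero_add n) := by
  rw [HofPush_apply, Ext.mapExactFunctor_comp, Ext.mapExactFunctor_mk₀]
  simp only [Ext.comp_assoc_of_third_deg_zero, Ext.mk₀_comp_mk₀]

/-- Connecting maps and maps to a direct image. -/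
lemma HofPush_connect {S : ShortComplex (EtCoh.Ab C)} (hS : S.ShortExact) {S' : ShortComplex (EtCoh.Ab B)}
    (hS' : S'.ShortExact) (φ : S ⟶ S'.map (EtCoh.push u)) (n : ℕ) (z : EtCoh.H C S.X₃ n) :
    EtLim.HofPush u S'.X₁ (n + 1) ((z.comp hS.extClass rfl).comp (Ext.mk₀ φ.τ₁) (add_zero (n + 1))) =
      (EtLim.HofPush u S'.X₃ n (z.comp (Ext.mk₀ φ.τ₃) (add_zero n))).comp hS'.extClass rfl := by
  let adj := EtCoh.pullPushAdj u
  haveI : (EtCoh.pull u).Additive := adj.left_adjoint_additive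
  haveI : PreservesColimitsOfSize.{0, 0} (EtCoh.pull u) := adj.leftAdjoint_preservesColimits
  haveI : PreservesFiniteColimits (EtCoh.pull u) := PreservesColimitsOfSize.preservesFiniteColimits.{0, 0} _
  let ψ : S.map (EtCoh.pull u) ⟶ S' :=
    { τ₁ := (EtCoh.pull u).map φ.τ₁ ≫ adj.counit.app _
      τ₂ := (EtCoh.pull u).map φ.τ₂ ≫ adj.counit.app _
      τ₃ := (EtCoh.pull u).map φ.τ₃ ≫ adj.counit.app _
      comm₁₂ := counit_sq adj φ.τ₁ S'.f φ.τ₂ S.f φ.comm₁₂
      comm₂₃ := counit_sq adj φ.τ₂ S'.g φ.τ₃ S.g φ.comm₂₃ }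
  exact (HofPush_mk₀ u S'.X₁ φ.τ₁ (n + 1) (z.comp hS.extClass rfl)).trans
    ((ext_connect (EtCoh.pull u) (Ext.mk₀ (EtCore.pullConst u ℤ).inv) hS hS' ψ n z).trans
      (congrArg (fun t => Ext.comp t hS'.extClass rfl) (HofPush_mk₀ u S'.X₃ φ.τ₃ n z).symm))

end Groth.Agent.EtLim24
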