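import Groth.Agent.Lib.EtLim24.Pull
import Groth.Agent.Lib.EtLim24.Theorem
import Mathlib.CategoryTheory.Limits.Connected

/-!
# The limit theorem for inverse images
-/

set_option autoImplicit false
set_option linter.style.haveILetI false
set_option linter.unusedSectionVars false
set_option backward.isDefEq.respectTransparency.types false

universe u

open CategoryTheory CategoryTheory.Limits AlgebraicGeometry Opposite CategoryTheory.Abelian

namespace Groth.Agent.EtLim24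

open Groth.Agent.EtStalk

variable {A B C : Scheme.{u}}

/-- Inverse images along a composite. -/
noncomputable def pullT (v : A ⟶ B) (u : B ⟶ C) (w : A ⟶ C) (e : v ≫ u = w) :
    EtCoh.pull w ≅ EtCoh.pull u ⋙ EtCoh.pull v :=
  EtCore.pullCongr e.symm ≪≫ EtCore.pullComp v u

/-- The transpose of a composite of maps from inverse images. -/
lemma transpose_comp (v : A ⟶ B) (u : B ⟶ C) (w : A ⟶ C) (e : v ≫ u = w) {F : EtCoh.Ab C} {M : EtCoh.Ab B}
    {L : EtCoh.Ab A} (φ : (EtCoh.pull u).obj F ⟶ M) (ψ : (EtCoh.pull v).obj M ⟶ L) :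
    (EtCoh.pullPushAdj u).homEquiv F M φ ≫ (EtCoh.push u).map ((EtCoh.pullPushAdj v).homEquiv M L ψ) ≫
        (pc v u w e).hom.app L =
      (EtCoh.pullPushAdj w).homEquiv F L ((pullT v u w e).hom.app F ≫ (EtCoh.pull v).map φ ≫ ψ) := by
  subst e
  let adj' := ((EtCoh.pullPushAdj u).comp (EtCoh.pullPushAdj v)).ofNatIsoRight (EtCoh.pushComp u v)
  have h := Adjunction.unit_leftAdjointUniq_hom_app (EtCoh.pullPushAdj (v ≫ u)) adj' F
  have e1 : (pc v u (v ≫ u) rfl).hom.app L = (EtCoh.pushComp u v).hom.app L := by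
    simp [pc, EtAcyc24.pushCongr_refl_hom]
  have e2 : (pullT v u (v ≫ u) rfl).hom.app F = (EtCore.pullComp v u).hom.app F := by
    simp [pullT, EtCore.pullCongr]
  have e3 : adj'.unit.app F = (EtCoh.pullPushAdj u).unit.app F ≫
      (EtCoh.push u).map ((EtCoh.pullPushAdj v).unit.app _) ≫
      (EtCoh.pushComp u v).hom.app ((EtCoh.pull v).obj ((EtCoh.pull u).obj F)) := by
    simp [adj', Adjunction.ofNatIsoRight, Adjunction.comp, Adjunction.homEquiv_unit,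
      Adjunction.equivHomsetRightOfNatIso]
  rw [e1, e2, Adjunction.homEquiv_unit, Adjunction.homEquiv_unit, Adjunction.homEquiv_unit]
  refine Eq.trans ?_ ((congrArg (fun q => (EtCoh.pullPushAdj (v ≫ u)).unit.app F ≫ q)
    ((EtCoh.push (v ≫ u)).map_comp ((EtCore.pullComp v u).hom.app F) ((EtCoh.pull v).map φ ≫ ψ))).trans
      ((Category.assoc _ _ _).symm.trans
        (congrArg (fun q => q ≫ (EtCoh.push (v ≫ u)).map ((EtCoh.pull v).map φ ≫ ψ)) h))).symm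
  rw [e3]
  simp only [Category.assoc]
  erw [← (EtCoh.pushComp u v).hom.naturality ((EtCoh.pull v).map φ ≫ ψ)]
  simp only [Functor.comp_map, Functor.map_comp, Category.assoc]
  refine congrArg (fun q => (EtCoh.pullPushAdj u).unit.app F ≫ q) ?_
  rw [← Category.assoc, ← Category.assoc, ← Category.assoc, ← Category.assoc]
  refine congrArg (fun q => (q ≫ (EtCoh.push u).map ((EtCoh.push v).map ψ)) ≫ (EtCoh.pushComp u v).hom.app L) ?_
  rw [← Functor.map_comp, ← Functor.map_comp]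
  exact congrArg (EtCoh.push u).map ((EtCoh.pullPushAdj v).unit.naturality φ)

lemma HofPush_transpose (u : B ⟶ C) [PreservesFiniteLimits (EtCoh.pull u)] {F : EtCoh.Ab C} {M : EtCoh.Ab B}
    (α : (EtCoh.pull u).obj F ⟶ M) (n : ℕ) (x : EtCoh.H C F n) :
    EtLim.HofPush u M n (x.comp (Ext.mk₀ ((EtCoh.pullPushAdj u).homEquiv F M α)) (add_zero n)) =
      EtLim.HpullThen u F α n x := by
  refine (HofPush_mk₀ u M ((EtCoh.pullPushAdj u).homEquiv F M α) n x).trans ?_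
  have e : (EtCoh.pull u).map ((EtCoh.pullPushAdj u).homEquiv F M α) ≫ (EtCoh.pullPushAdj u).counit.app M = α :=
    ((EtCoh.pullPushAdj u).homEquiv_counit _ _ _).symm.trans (Equiv.symm_apply_apply _ α)
  rw [e]
  exact (Ext.comp_assoc_of_third_deg_zero _ _ _ _).symm

lemma eq_zero_of_HpullVia (f : A ⟶ B) (t : B ⟶ C) (f₀ : A ⟶ C) (w : f ≫ t = f₀)
    [PreservesFiniteLimits (EtCoh.pull f)] (G : EtCoh.Ab C) (n : ℕ)
    (x : EtCoh.H B ((EtCoh.pull t).obj G) n) (h : EtCore.HpullVia f t f₀ w G n x = 0) :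
    EtCore.Hpull f _ n x = 0 :=
  FieldH25.eq_zero_of_comp_iso _ (((EtCore.pullComp f t).symm ≪≫ EtCore.pullCongr w).app G) h

lemma eq_of_transpose (u : B ⟶ C) {F : EtCoh.Ab C} {G : EtCoh.Ab B} {f g : (EtCoh.pull u).obj F ⟶ G}
    (h : (EtCoh.pullPushAdj u).homEquiv F _ (𝟙 _) ≫ (EtCoh.push u).map f =
      (EtCoh.pullPushAdj u).homEquiv F _ (𝟙 _) ≫ (EtCoh.push u).map g) : f = g := by
  rw [← Adjunction.homEquiv_naturality_right, ← Adjunction.homEquiv_naturality_right, Category.id_comp,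
    Category.id_comp] at h
  exact ((EtCoh.pullPushAdj u).homEquiv F G).injective h

lemma assoc₄ {𝒞 : Type*} [Category 𝒞] {P Q R S T U : 𝒞} (a : P ⟶ Q) (x : Q ⟶ R) (y : R ⟶ S) (z : S ⟶ T)
    (w : T ⟶ U) (r : P ⟶ S) (h : a ≫ x ≫ y = r) : a ≫ x ≫ (y ≫ z) ≫ w = r ≫ z ≫ w := by
  subst h
  simp only [Category.assoc]

section Base

variable {ι : Type u} [Preorder ι] {Xs : ιᵒᵖ ⥤ Scheme.{u}} {c : Cone Xs}
  {Y : Scheme.{u}} (b : ∀ i : ι, Xs.obj (op i) ⟶ Y) (hb : ∀ ⦃i j : ι⦄ (h : i ≤ j), uM Xs h ≫ b i = b j)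
  (b' : c.pt ⟶ Y) (hb' : ∀ i, pr Xs c i ≫ b i = b') (F₀ : EtCoh.Ab Y)

/-- The unit at the stage `i`. -/
noncomputable abbrev rho (i : ι) : F₀ ⟶ (EtCoh.push (b i)).obj ((EtCoh.pull (b i)).obj F₀) :=
  (EtCoh.pullPushAdj (b i)).homEquiv F₀ _ (𝟙 _)

/-- The transition maps of the system of inverse images of a sheaf. -/
noncomputable abbrev bt ⦃i j : ι⦄ (h : i ≤ j) :
    (EtCoh.pull (b i)).obj F₀ ⟶ (EtCoh.push (uM Xs h)).obj ((EtCoh.pull (b j)).obj F₀) :=
  (EtCoh.pullPushAdj (uM Xs h)).homEquiv _ _ ((pullT (uM Xs h) (b i) (b j) (hb h)).inv.app F₀)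

/-- The maps to the inverse image on the limit. -/
noncomputable abbrev bη (i : ι) :
    (EtCoh.pull (b i)).obj F₀ ⟶ (EtCoh.push (pr Xs c i)).obj ((EtCoh.pull b').obj F₀) :=
  (EtCoh.pullPushAdj (pr Xs c i)).homEquiv _ _ ((pullT (pr Xs c i) (b i) b' (hb' i)).inv.app F₀)

lemma rho_bt {i j : ι} (h : i ≤ j) :
    rho b F₀ i ≫ (EtCoh.push (b i)).map (bt b hb F₀ h) ≫
      (pc (uM Xs h) (b i) (b j) (hb h)).hom.app _ = rho b F₀ j := by
  rw [transpose_comp]
  refine congrArg ((EtCoh.pullPushAdj (b j)).homEquiv F₀ _) ?_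
  rw [CategoryTheory.Functor.map_id]
  erw [Category.id_comp]
  exact Iso.hom_inv_id_app _ _

lemma rho_bη (i : ι) :
    rho b F₀ i ≫ (EtCoh.push (b i)).map (bη b b' hb' F₀ i) ≫
      (pc (pr Xs c i) (b i) b' (hb' i)).hom.app _ = (EtCoh.pullPushAdj b').homEquiv F₀ _ (𝟙 _) := by
  rw [transpose_comp]
  refine congrArg ((EtCoh.pullPushAdj b').homEquiv F₀ _) ?_
  rw [CategoryTheory.Functor.map_id]
  erw [Category.id_comp]
  exact Iso.hom_inv_id_app _ _

lemma bt_cocycle {i j k : ι} (h₁ : i ≤ j) (h₂ : j ≤ k) :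
    bt b hb F₀ (h₁.trans h₂) = bt b hb F₀ h₁ ≫ (EtCoh.push (uM Xs h₁)).map (bt b hb F₀ h₂) ≫
      tcomp h₁ h₂ ((EtCoh.pull (b k)).obj F₀) := by
  refine eq_of_transpose (b i) ?_
  rw [← cancel_mono ((pc (uM Xs (h₁.trans h₂)) (b i) (b k) (hb _)).hom.app ((EtCoh.pull (b k)).obj F₀)),
    Category.assoc, rho_bt]
  have hA := pc_assoc (uM Xs h₂) (uM Xs h₁) (b i) (uM Xs (h₁.trans h₂)) (b j) (b k) (uM_comp h₁ h₂) (hb h₁)
    (hb (h₁.trans h₂)) (hb h₂) ((EtCoh.pull (b k)).obj F₀)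
  simp only [Functor.map_comp, Category.assoc, tcomp]
  erw [hA]
  have hn := (pc (uM Xs h₁) (b i) (b j) (hb h₁)).hom.naturality (bt b hb F₀ h₂)
  erw [← Category.assoc ((EtCoh.push (b i)).map ((EtCoh.push (uM Xs h₁)).map _)), hn]
  exact ((assoc₄ _ _ _ _ _ _ (rho_bt b hb F₀ h₁)).trans (rho_bt b hb F₀ h₂)).symm

lemma bt_bη {i j : ι} (h : i ≤ j) : bt b hb F₀ h ≫ bmap h (bη b b' hb' F₀ j) = bη b b' hb' F₀ i := by
  refine eq_of_transpose (b i) ?_
  rw [← cancel_mono ((pc (pr Xs c i) (b i) b' (hb' i)).hom.app ((EtCoh.pull b').obj F₀)), Category.assoc]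
  conv_rhs => rw [Category.assoc, rho_bη]
  have hA := pc_assoc (pr Xs c j) (uM Xs h) (b i) (pr Xs c i) (b j) b' (pr_w h) (hb h) (hb' i) (hb' j)
    ((EtCoh.pull b').obj F₀)
  simp only [Functor.map_comp, Category.assoc, bmap]
  erw [hA]
  have hn := (pc (uM Xs h) (b i) (b j) (hb h)).hom.naturality (bη b b' hb' F₀ j)
  erw [← Category.assoc ((EtCoh.push (b i)).map ((EtCoh.push (uM Xs h)).map _)), hn]
  exact (assoc₄ _ _ _ _ _ _ (rho_bt b hb F₀ h)).trans (rho_bη b b' hb' F₀ j)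

/-- The system of inverse images of a sheaf. -/
noncomputable abbrev basePull : PullSys Xs c where
  F i := (EtCoh.pull (b i)).obj F₀
  D := (Functor.const ι).obj ((EtCoh.pull b').obj F₀)
  η := bη b b' hb' F₀
  isPullUnit i := by
    exact (congrArg (fun q => IsIso q) (((EtCoh.pullPushAdj (pr Xs c i)).homEquiv _ _).symm_apply_apply
      ((pullT (pr Xs c i) (b i) b' (hb' i)).inv.app F₀))).mpr inferInstance
  t := bt b hb F₀
  fac i j h := by
    rw [bt_bη]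
    simp

variable [IsDirected ι (· ≤ ·)] [Nonempty ι] [∀ i : ι, CompactSpace ↥(Xs.obj (op i))]
  [∀ i : ι, QuasiSeparatedSpace ↥(Xs.obj (op i))]

/-- The system of inverse images, with their common inverse image on the limit. -/
noncomputable abbrev baseSys : Sys Xs c :=
  (basePull b hb b' hb' F₀).toSys (constCocone ι ((EtCoh.pull b').obj F₀)) (fun _ _ _ h₁ h₂ => bt_cocycle b hb F₀ h₁ h₂)

theorem isLim_baseSys (haff : ∀ ⦃a b : ιᵒᵖ⦄ (h : a ⟶ b), IsAffineHom (Xs.map h)) (hc : IsLimit c) :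
    (baseSys b hb b' hb' F₀).IsLim :=
  haveI : CategoryTheory.IsConnected ι := IsFiltered.isConnected _
  (basePull b hb b' hb' F₀).isLim_toSys haff hc _ (isColimitConstCocone ι _) _

variable [∀ a, PreservesFiniteLimits (EtCoh.pull (c.π.app a))]
  [∀ ⦃a b : ιᵒᵖ⦄ (h : a ⟶ b), PreservesFiniteLimits (EtCoh.pull (Xs.map h))]

lemma baseSys_A (i : ι) (n : ℕ) (x : EtCoh.H (Xs.obj (op i)) ((EtCoh.pull (b i)).obj F₀) n) :
    (baseSys b hb b' hb' F₀).A i n x = EtCore.HpullVia (pr Xs c i) (b i) b' (hb' i) F₀ n x := by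
  show EtLim.HofPush (pr Xs c i) _ n (x.comp (Ext.mk₀ (bη b b' hb' F₀ i ≫
    (EtCoh.push (pr Xs c i)).map ((constCocone ι ((EtCoh.pull b').obj F₀)).ι.app i))) (add_zero n)) = _
  rw [show (constCocone ι ((EtCoh.pull b').obj F₀)).ι.app i = 𝟙 _ from rfl]
  erw [CategoryTheory.Functor.map_id, Category.comp_id]
  exact HofPush_transpose (pr Xs c i) _ n x

lemma baseSys_T {i j : ι} (h : i ≤ j) (n : ℕ) (x : EtCoh.H (Xs.obj (op i)) ((EtCoh.pull (b i)).obj F₀) n) :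
    (baseSys b hb b' hb' F₀).T h n x = EtCore.HpullVia (uM Xs h) (b i) (b j) (hb h) F₀ n x :=
  HofPush_transpose (uM Xs h) _ n x

/-- The limit theorem for the inverse images of a sheaf. -/
theorem limit_base (haff : ∀ ⦃a b : ιᵒᵖ⦄ (h : a ⟶ b), IsAffineHom (Xs.map h)) (hc : IsLimit c) (n : ℕ) :
    (∀ ξ : EtCoh.H c.pt ((EtCoh.pull b').obj F₀) n, ∃ (i : ι) (x : EtCoh.H (Xs.obj (op i)) ((EtCoh.pull (b i)).obj F₀) n),
      EtCore.HpullVia (pr Xs c i) (b i) b' (hb' i) F₀ n x = ξ) ∧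
    ∀ (i : ι) (x : EtCoh.H (Xs.obj (op i)) ((EtCoh.pull (b i)).obj F₀) n),
      EtCore.HpullVia (pr Xs c i) (b i) b' (hb' i) F₀ n x = 0 →
        ∃ (j : ι) (h : i ≤ j), EtCore.HpullVia (uM Xs h) (b i) (b j) (hb h) F₀ n x = 0 := by
  have hG := limit_good haff hc (baseSys b hb b' hb' F₀) (isLim_baseSys b hb b' hb' F₀ haff hc) n
  refine ⟨fun ξ => ?_, fun i x hx => ?_⟩
  · obtain ⟨i, x, rfl⟩ := hG.1 ξ
    exact ⟨i, x, (baseSys_A b hb b' hb' F₀ i n x).symm⟩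
  · obtain ⟨j, h, hj⟩ := hG.2 i x ((baseSys_A b hb b' hb' F₀ i n x).trans hx)
    exact ⟨j, h, (baseSys_T b hb b' hb' F₀ h n x).symm.trans hj⟩

end Base

end Groth.Agent.EtLim24
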