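import Groth.Agent.Lib.EtLim24.Covers
import Groth.Prelude.Def_EtLim
import Mathlib.AlgebraicGeometry.AffineTransitionLimit

/-!
# Additive and multiplicative groups on a limit of schemes
-/

set_option autoImplicit false
set_option linter.style.haveILetI false
set_option linter.unusedSectionVars false
set_option backward.isDefEq.respectTransparency.types false

universe u

open CategoryTheory CategoryTheory.Limits AlgebraicGeometry Opposite

namespace Groth.Agent.EtLim24

/-- A presheaf on schemes commutes with limits of schemes with affine transition maps. -/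
def CommutesWithLimits (P : Scheme.{u}ᵒᵖ ⥤ AddCommGrpCat.{u + 1}) : Prop :=
  ∀ (I : Type u) [SmallCategory I] [IsCofiltered I] (D : I ⥤ Scheme.{u}) (c : Cone D) (_ : IsLimit c)
    [∀ {i j} (f : i ⟶ j), IsAffineHom (D.map f)] [∀ i, CompactSpace (D.obj i)]
    [∀ i, QuasiSeparatedSpace (D.obj i)],
    (∀ s : P.obj (op c.pt), ∃ (i : I) (y : P.obj (op (D.obj i))), P.map (c.π.app i).op y = s) ∧
      ∀ (i : I) (y : P.obj (op (D.obj i))), P.map (c.π.app i).op y = 0 →
        ∃ (j : I) (f : j ⟶ i), P.map (D.map f).op y = 0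

theorem commutesWithLimits_ΓAdd : CommutesWithLimits EtCoh.ΓAdd.{u} := by
  intro I _ _ D c hc _ _ _
  refine ⟨fun s => ?_, fun i y hy => ?_⟩
  · obtain ⟨i, t, ht⟩ := exists_appTop_π_eq_of_isLimit D c hc (s : ULift.{u + 1} Γ(c.pt, ⊤)).down
    exact ⟨i, ULift.up t, ULift.ext _ _ (ht.symm)⟩
  · obtain ⟨j, f, hf⟩ := exists_appTop_map_eq_zero_of_isLimit D c hc (i := i)
      (y : ULift.{u + 1} Γ(D.obj i, ⊤)).down (congrArg ULift.down hy)
    exact ⟨j, f, ULift.ext _ _ hf⟩

theorem commutesWithLimits_ΓUnits : CommutesWithLimits EtCoh.ΓUnits.{u} := by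
  intro I _ _ D c hc _ _ _
  refine ⟨fun s => ?_, fun i y hy => ?_⟩
  · let u : (Γ(c.pt, ⊤))ˣ := Additive.toMul (s : ULift.{u + 1} (Additive (Γ(c.pt, ⊤))ˣ)).down
    obtain ⟨i, a, ha⟩ := exists_appTop_π_eq_of_isLimit D c hc (u : Γ(c.pt, ⊤))
    obtain ⟨j, b, hb⟩ := exists_appTop_π_eq_of_isLimit D c hc ((u⁻¹ : (Γ(c.pt, ⊤))ˣ) : Γ(c.pt, ⊤))
    obtain ⟨k, p, q, -⟩ := IsCofilteredOrEmpty.cone_objs i j
    let a' := (D.map p).appTop a
    let b' := (D.map q).appTop b
    have ha' : (c.π.app k).appTop a' = (u : Γ(c.pt, ⊤)) := by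
      rw [ha, ← c.w p]
      exact (ConcreteCategory.congr_hom (Scheme.Hom.comp_appTop (c.π.app k) (D.map p)) a).symm
    have hb' : (c.π.app k).appTop b' = ((u⁻¹ : (Γ(c.pt, ⊤))ˣ) : Γ(c.pt, ⊤)) := by
      rw [hb, ← c.w q]
      exact (ConcreteCategory.congr_hom (Scheme.Hom.comp_appTop (c.π.app k) (D.map q)) b).symm
    obtain ⟨m, g, hg⟩ := exists_appTop_map_eq_zero_of_isLimit D c hc (i := k) (a' * b' - 1)
      (by rw [map_sub, map_mul, map_one, ha', hb', Units.mul_inv, sub_self])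
    rw [map_sub, map_mul, map_one, sub_eq_zero] at hg
    refine ⟨m, ULift.up (Additive.ofMul (Units.mkOfMulEqOne _ _ hg)), ULift.ext _ _ (congrArg Additive.ofMul (Units.ext ?_))⟩
    show (c.π.app m).appTop ((D.map g).appTop a') = (u : Γ(c.pt, ⊤))
    rw [← ha', ← c.w g]
    exact (ConcreteCategory.congr_hom (Scheme.Hom.comp_appTop (c.π.app m) (D.map g)) a').symm
  · let v : (Γ(D.obj i, ⊤))ˣ := Additive.toMul (y : ULift.{u + 1} (Additive (Γ(D.obj i, ⊤))ˣ)).down
    have hv : (c.π.app i).appTop (v : Γ(D.obj i, ⊤)) = 1 :=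
      congrArg (fun t : ULift.{u + 1} (Additive (Γ(c.pt, ⊤))ˣ) => ((Additive.toMul t.down : (Γ(c.pt, ⊤))ˣ) : Γ(c.pt, ⊤))) hy
    obtain ⟨j, f, hf⟩ := exists_appTop_map_eq_zero_of_isLimit D c hc (i := i) ((v : Γ(D.obj i, ⊤)) - 1)
      (by rw [map_sub, map_one, hv, sub_self])
    rw [map_sub, map_one, sub_eq_zero] at hf
    exact ⟨j, f, ULift.ext _ _ (congrArg Additive.ofMul (Units.ext hf))⟩

section System

variable (P : Scheme.{u}ᵒᵖ ⥤ AddCommGrpCat.{u + 1}) (hP : Presheaf.IsSheaf Scheme.etaleTopology P)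

/-- The restriction to a small étale site. -/
noncomputable abbrev restrSmall (X : Scheme.{u}) : EtCoh.Ab X :=
  ((Scheme.Etale.forget X ⋙ Over.forget X).sheafPushforwardContinuous _ _ Scheme.etaleTopology).obj ⟨P, hP⟩

/-- Functoriality. -/
noncomputable abbrev restrPush {X Y : Scheme.{u}} (v : X ⟶ Y) :
    restrSmall P hP Y ⟶ (EtCoh.push v).obj (restrSmall P hP X) :=
  ObjectProperty.homMk (Functor.whiskerRight (NatTrans.op (EtLim.bcProj v)) P)

lemma restrPush_comp {A B C : Scheme.{u}} (v : A ⟶ B) (w : A ⟶ C) (p : B ⟶ C) (e : v ≫ p = w) :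
    restrPush P hP p ≫ (EtCoh.push p).map (restrPush P hP v) ≫ (pc v p w e).hom.app (restrSmall P hP A) =
      restrPush P hP w := by
  refine Sheaf.hom_ext (NatTrans.ext (funext fun V => ?_))
  obtain ⟨V⟩ := V
  refine AddCommGrpCat.ext fun s => ?_
  refine (pc_app v p w e (restrSmall P hP A) V _).trans ?_
  show P.map ((bcc v p w e).inv.app V).left.op (P.map (pullback.fst ((EtCoh.bc p).obj V).hom v).op
    (P.map (pullback.fst V.hom p).op s)) = P.map (pullback.fst V.hom w).op s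
  refine ((congrArg (P.map ((bcc v p w e).inv.app V).left.op) (Functor.map_comp_apply P (pullback.fst V.hom p).op
    (pullback.fst ((EtCoh.bc p).obj V).hom v).op s).symm).trans (Functor.map_comp_apply P _ _ s).symm).trans ?_
  refine congrArg (fun m : ((EtCoh.bc w).obj V).left ⟶ V.left => P.map m.op s) ?_
  exact bcc_inv_left_fst v p w e V

variable {ι : Type u} [Preorder ι] {Xs : ιᵒᵖ ⥤ Scheme.{u}} {c : Cone Xs}

/-- The system. -/
noncomputable abbrev restrSys : Sys Xs c where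
  F i := restrSmall P hP (Xs.obj (op i))
  G := restrSmall P hP c.pt
  a i := restrPush P hP (pr Xs c i)
  t i j h := restrPush P hP (uM Xs h)
  fac i j h := restrPush_comp P hP (pr Xs c j) (pr Xs c i) (uM Xs h) (pr_w h)
  cocycle i j k h₁ h₂ := (restrPush_comp P hP (uM Xs h₂) (uM Xs (h₁.trans h₂)) (uM Xs h₁) (uM_comp h₁ h₂)).symm

variable [IsDirected ι (· ≤ ·)] [Nonempty ι] [∀ i : ι, CompactSpace ↥(Xs.obj (op i))]
  [∀ i : ι, QuasiSeparatedSpace ↥(Xs.obj (op i))]

theorem isLim_restrSys (hPl : CommutesWithLimits P)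
    (haff : ∀ ⦃a b : ιᵒᵖ⦄ (h : a ⟶ b), IsAffineHom (Xs.map h)) (hc : IsLimit c) :
    (restrSys P hP (Xs := Xs) (c := c)).IsLim := by
  haveI : ∀ (a b : ιᵒᵖ) (h : a ⟶ b), IsAffineHom (Xs.map h) := fun a b h => haff h
  have key : ∀ (i : ι) (V : (Xs.obj (op i)).Etale), CompactSpace V.left → QuasiSeparatedSpace V.left →
      (∀ s : P.obj (op (pullback V.hom (c.π.app (op i)))), ∃ (j : ι) (h : i ≤ j)
          (y : P.obj (op (pullback V.hom (uM Xs h)))), P.map (qpr h V).op y = s) ∧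
        ∀ s : P.obj (op V.left), P.map (pullback.fst V.hom (c.π.app (op i))).op s = 0 →
          ∃ (j : ι) (h : i ≤ j), P.map (pullback.fst V.hom (uM Xs h)).op s = 0 := by
    intro i V hV hV'
    let F := Over.forget (op i)
    let tt := Descend.overT Xs (op i)
    let c₀ : Cone (F ⋙ Xs) := c.whisker F
    have hc₀ : IsLimit c₀ := (Functor.Initial.isLimitWhiskerEquiv F c).symm hc
    have hq₀ : ∀ k, c₀.π.app k ≫ tt.app k = c.π.app (op i) := fun k => c.w k.hom
    have hW : IsPullback (pullback.fst V.hom (c.π.app (op i))) (pullback.snd V.hom (c.π.app (op i))) V.hom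
        (c.π.app (op i)) := IsPullback.of_hasPullback _ _
    let E := Descend.pbDiagram (F ⋙ Xs) tt V.hom
    let cE := Descend.pbCone (F ⋙ Xs) tt V.hom c₀ hq₀ hW
    have hE : IsLimit cE := Descend.pbIsLimit (F ⋙ Xs) tt V.hom c₀ hq₀ hW hc₀
    haveI : CompactSpace ↥((𝟭 Scheme).obj V.left) := hV
    haveI : QuasiSeparatedSpace ↥((𝟭 Scheme).obj V.left) := hV'
    haveI : ∀ {a b : Over (op i)} (h : a ⟶ b), IsAffineHom (E.map h) := fun h => Descend.pb_isAffineHom_map _ _ _ h
    haveI : ∀ k, CompactSpace ↥(E.obj k) := fun k => Descend.pb_compactSpace _ _ _ k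
    haveI : ∀ k, QuasiSeparatedSpace ↥(E.obj k) := fun k => Descend.pb_quasiSeparatedSpace _ _ _ k
    obtain ⟨h₁, h₂⟩ := hPl (Over (op i)) E cE hE
    refine ⟨fun s => ?_, fun s hs => ?_⟩
    · obtain ⟨k, y, hy⟩ := h₁ s
      refine ⟨k.left.unop, leOfHom k.hom.unop, y, ?_⟩
      have hq : cE.π.app k = qpr (leOfHom k.hom.unop) V := by
        refine pullback.hom_ext ?_ ?_
        · refine (Descend.pbCone_fst (F ⋙ Xs) tt V.hom c₀ hq₀ hW k).trans ?_
          exact (bcc_inv_left_fst _ _ _ (c.w (homOfLE (leOfHom k.hom.unop)).op) V).symm.trans (Category.assoc _ _ _).symm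
        · refine (Descend.pbCone_snd (F ⋙ Xs) tt V.hom c₀ hq₀ hW k).trans ?_
          exact (left_fst_hom ((bcc (c.π.app k.left) (Xs.map (homOfLE (leOfHom k.hom.unop)).op) (c.π.app (op i))
            (c.w (homOfLE (leOfHom k.hom.unop)).op)).inv.app V)).symm
      exact (congrArg (fun m : cE.pt ⟶ E.obj k => P.map m.op y) hq).symm.trans hy
    · let k₁ : Over (op i) := Over.mk (𝟙 (op i))
      let p₁ : E.obj k₁ ⟶ V.left := pullback.fst V.hom (tt.app k₁)
      have hs' : P.map (cE.π.app k₁).op (P.map p₁.op s) = 0 := by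
        rw [← Functor.map_comp_apply, ← op_comp, Descend.pbCone_fst]
        exact hs
      obtain ⟨k₂, a, ha⟩ := h₂ k₁ (P.map p₁.op s) hs'
      rw [← Functor.map_comp_apply, ← op_comp, Descend.pbMap_fst] at ha
      exact ⟨k₂.left.unop, leOfHom k₂.hom.unop, ha⟩
  constructor
  · intro i V hV hV' s
    obtain ⟨j, h, y, hy⟩ := (key i V hV hV').1 s
    refine ⟨j, h, y, ?_⟩
    refine (pc_app (pr Xs c j) (uM Xs h) (pr Xs c i) (pr_w h) (restrSmall P hP c.pt) V _).trans ?_
    refine Eq.trans ?_ hy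
    show P.map ((bcc (pr Xs c j) (uM Xs h) (pr Xs c i) (pr_w h)).inv.app V).left.op
      (P.map (pullback.fst ((EtCoh.bc (uM Xs h)).obj V).hom (pr Xs c j)).op y) = _
    exact (Functor.map_comp_apply P _ _ y).symm
  · intro i V hV hV' s hs
    exact (key i V hV hV').2 s hs

end System

end Groth.Agent.EtLim24
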