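import Groth.Agent.Lib.EtLim24.Sys

/-!
# Cohomology of the limit
-/

set_option autoImplicit false
set_option linter.style.haveILetI false
set_option backward.isDefEq.respectTransparency.types false
set_option linter.unusedSectionVars false

universe u

open CategoryTheory CategoryTheory.Limits AlgebraicGeometry Opposite CategoryTheory.Abelian

namespace Groth.Agent.EtLim24

open Groth.Agent.EtStalk

variable {ι : Type u} [Preorder ι] {Xs : ιᵒᵖ ⥤ Scheme.{u}} {c : Cone Xs}
variable [IsDirected ι (· ≤ ·)] [Nonempty ι] [∀ i : ι, CompactSpace ↥(Xs.obj (op i))]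
  [∀ i : ι, QuasiSeparatedSpace ↥(Xs.obj (op i))]
  [∀ a, PreservesFiniteLimits (EtCoh.pull (c.π.app a))]
  [∀ ⦃a b : ιᵒᵖ⦄ (h : a ⟶ b), PreservesFiniteLimits (EtCoh.pull (Xs.map h))]

/-- Systems of subsheaves of direct images compare as the direct images do. -/
theorem good_of_mono (S : Sys Xs c) (hS : S.IsLim) [∀ i, Mono (S.a i)] (n : ℕ)
    (hc : (can Xs c S.G).Good n) : S.Good n := by
  have hu : ∀ i : ι, _ := fun i : ι =>
    union_surj_inj (fun l : After i => (EtCoh.push (uM Xs l.2)).obj (S.F l.1)) (fun l => bmap l.2 (S.a l.1))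
      (fun {l l'} h => (EtCoh.push (uM Xs l.2)).map (S.t h) ≫ tcomp l.2 h (S.F l'.1))
      (fun {l l'} h => by
        refine (Category.assoc _ _ _).trans ?_
        rw [bmap_comp l.2 h, ← Functor.map_comp_assoc, S.fac h]
        rfl)
      (fun V hV hV' s => by
        obtain ⟨j, h, y, hy⟩ := hS.surj i V hV hV' s
        exact ⟨⟨j, h⟩, y, hy⟩) n
  refine ⟨fun ξ => ?_, fun i x hx => ?_⟩
  · obtain ⟨i, x, hx⟩ := hc.1 ξ
    obtain ⟨⟨j, h⟩, y, hy⟩ := (hu i).1 x
    refine ⟨j, EtLim.HofPush (uM Xs h) (S.F j) n y, ?_⟩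
    rw [← S.A_bmap h n y, hy, ← hx]
    show EtLim.HofPush (pr Xs c i) S.G n x = EtLim.HofPush (pr Xs c i) S.G n (x.comp (Ext.mk₀ (𝟙 _)) (add_zero n))
    rw [Ext.comp_mk₀_id]
  · obtain ⟨m, h, hm⟩ := hc.2 i (x.comp (Ext.mk₀ (S.a i)) (add_zero n)) (by
      show EtLim.HofPush (pr Xs c i) S.G n ((x.comp (Ext.mk₀ (S.a i)) (add_zero n)).comp (Ext.mk₀ (𝟙 _))
        (add_zero n)) = 0
      rw [Ext.comp_mk₀_id]
      exact hx)
    have e : S.a i ≫ (can Xs c S.G).t h = S.t h ≫ (EtCoh.push (uM Xs h)).map (S.a m) := by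
      rw [← cancel_mono ((pc (pr Xs c m) (uM Xs h) (pr Xs c i) (pr_w h)).hom.app S.G), Category.assoc, Category.assoc]
      show S.a i ≫ (pc (pr Xs c m) (uM Xs h) (pr Xs c i) (pr_w h)).inv.app S.G ≫
        (pc (pr Xs c m) (uM Xs h) (pr Xs c i) (pr_w h)).hom.app S.G = _
      rw [Iso.inv_hom_id_app]
      exact (Category.comp_id _).trans (S.fac h).symm
    have hx' : (S.T h n x).comp (Ext.mk₀ (S.a m)) (add_zero n) = 0 := by
      rw [Sys.T, ← HofPush_comp, Ext.comp_assoc_of_third_deg_zero, Ext.mk₀_comp_mk₀, ← e,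
        ← Ext.mk₀_comp_mk₀, ← Ext.comp_assoc_of_third_deg_zero]
      exact hm
    obtain ⟨⟨l, hl⟩, hl', hy⟩ := (hu m).2 ⟨m, le_rfl⟩ ((S.T h n x).comp (Ext.mk₀ (S.t le_rfl)) (add_zero n)) (by
      rw [Ext.comp_assoc_of_third_deg_zero, Ext.mk₀_comp_mk₀]
      erw [S.fac (le_refl m)]
      exact hx')
    refine ⟨l, h.trans hl', ?_⟩
    rw [← S.T_T h hl']
    show EtLim.HofPush (uM Xs hl') (S.F l) n _ = 0
    rw [show S.t hl' = S.t (le_refl m) ≫ (EtCoh.push (uM Xs (le_refl m))).map (S.t hl') ≫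
      tcomp (le_refl m) hl' (S.F l) from S.cocycle (le_refl m) hl', ← Ext.mk₀_comp_mk₀,
      ← Ext.comp_assoc_of_third_deg_zero]
    erw [hy]
    rw [map_zero]

section Gen

variable (S : Sys Xs c)

/-- The image in the direct images. -/
noncomputable abbrev im (i : ι) : EtCoh.Ab (Xs.obj (op i)) := cokernel (kernel.ι (S.a i))

noncomputable abbrev imπ (i : ι) : S.F i ⟶ im S i := cokernel.π _

noncomputable abbrev imA (i : ι) : im S i ⟶ (EtCoh.push (pr Xs c i)).obj S.G :=
  cokernel.desc _ (S.a i) (kernel.condition _)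

lemma imπ_imA (i : ι) : imπ S i ≫ imA S i = S.a i := cokernel.π_desc _ _ _

instance mono_imA (i : ι) : Mono (imA S i) :=
  (ShortComplex.exact_of_f_is_kernel (ShortComplex.mk (kernel.ι (S.a i)) (S.a i) (kernel.condition _))
    (kernelIsKernel _)).mono_cokernelDesc

noncomputable def imT {i j : ι} (h : i ≤ j) : im S i ⟶ (EtCoh.push (uM Xs h)).obj (im S j) :=
  cokernel.desc _ (S.t h ≫ (EtCoh.push (uM Xs h)).map (imπ S j)) (by
    haveI := (EtCoh.pullPushAdj (uM Xs h)).isRightAdjoint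
    rw [← Category.assoc, ← kerT_ι, Category.assoc, ← Functor.map_comp]
    show _ ≫ (EtCoh.push (uM Xs h)).map (kernel.ι (S.a j) ≫ cokernel.π _) = 0
    rw [cokernel.condition, Functor.map_zero, comp_zero])

lemma imπ_imT {i j : ι} (h : i ≤ j) : imπ S i ≫ imT S h = S.t h ≫ (EtCoh.push (uM Xs h)).map (imπ S j) :=
  cokernel.π_desc _ _ _

/-- The system of images. -/
noncomputable abbrev imSys : Sys Xs c :=
  Sys.ofMono Xs c (im S) S.G (imA S) (fun {i j} h => imT S h) (fun {i j} h => by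
    haveI : Epi (imπ S i) := by unfold imπ; infer_instance
    rw [← cancel_epi (imπ S i), ← Category.assoc, imπ_imT, imπ_imA, Category.assoc]
    show S.t h ≫ _ = _
    rw [bmap, ← Functor.map_comp_assoc, imπ_imA]
    exact S.fac h)

lemma isLim_imSys (hS : S.IsLim) : (imSys S).IsLim where
  surj i V hV hV' s := by
    obtain ⟨j, h, y, hy⟩ := hS.surj i V hV hV' s
    refine ⟨j, h, ((EtCoh.push (uM Xs h)).map (imπ S j)).hom.app (op V) y, ?_⟩
    have e : (EtCoh.push (uM Xs h)).map (imπ S j) ≫ bmap h (imA S j) = bmap h (S.a j) := by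
      rw [bmap, bmap, ← Functor.map_comp_assoc, imπ_imA]
    exact (congrArg (fun t : (EtCoh.push (uM Xs h)).obj (S.F j) ⟶ (EtCoh.push (pr Xs c i)).obj S.G =>
      t.hom.app (op V) y) e).trans hy
  inj i V hV hV' s hs := by
    refine ⟨i, le_rfl, ?_⟩
    rw [injective_app_of_mono (imA S i) V (hs.trans (map_zero _).symm)]
    exact map_zero _

/-- General systems compare as the direct images do. -/
theorem good_of_can (hS : S.IsLim) (n : ℕ) (hc : (can Xs c S.G).Good n) : S.Good n := by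
  haveI : ∀ i, Mono ((imSys S).a i) := fun i => mono_imA S i
  have hm : (imSys S).Good n := good_of_mono (imSys S) (isLim_imSys S hS) n hc
  let E : ∀ i : ι, ShortComplex (EtCoh.Ab (Xs.obj (op i))) := fun i =>
    ShortComplex.mk (kernel.ι (S.a i)) (imπ S i) (cokernel.condition _)
  have hE : ∀ i, (E i).ShortExact := fun i =>
    { exact := ShortComplex.exact_cokernel _
      mono_f := inferInstanceAs (Mono (kernel.ι (S.a i)))
      epi_g := inferInstanceAs (Epi (cokernel.π (kernel.ι (S.a i)))) }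
  have hA : ∀ (i : ι) (x : EtCoh.H (Xs.obj (op i)) (S.F i) n),
      (imSys S).A i n (x.comp (Ext.mk₀ (imπ S i)) (add_zero n)) = S.A i n x := fun i x => by
    show EtLim.HofPush (pr Xs c i) S.G n ((x.comp (Ext.mk₀ (imπ S i)) (add_zero n)).comp
      (Ext.mk₀ (imA S i)) (add_zero n)) = _
    rw [Ext.comp_assoc_of_third_deg_zero, Ext.mk₀_comp_mk₀, imπ_imA]
    rfl
  have hT : ∀ {i j : ι} (h : i ≤ j) (x : EtCoh.H (Xs.obj (op i)) (S.F i) n),
      (imSys S).T h n (x.comp (Ext.mk₀ (imπ S i)) (add_zero n)) =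
        (S.T h n x).comp (Ext.mk₀ (imπ S j)) (add_zero n) := fun {i j} h x => by
    show EtLim.HofPush (uM Xs h) (im S j) n ((x.comp (Ext.mk₀ (imπ S i)) (add_zero n)).comp
      (Ext.mk₀ (imT S h)) (add_zero n)) = (EtLim.HofPush (uM Xs h) (S.F j) n _).comp _ _
    rw [← HofPush_comp, Ext.comp_assoc_of_third_deg_zero, Ext.comp_assoc_of_third_deg_zero,
      Ext.mk₀_comp_mk₀, Ext.mk₀_comp_mk₀, imπ_imT]
  refine ⟨fun ξ => ?_, fun i x hx => ?_⟩
  · obtain ⟨i, z, rfl⟩ := hm.1 ξ
    obtain ⟨j, h, hj⟩ := kill S hS i (n + 1) (z.comp (hE i).extClass rfl)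
    let φ : E i ⟶ (E j).map (EtCoh.push (uM Xs h)) :=
      { τ₁ := kerT S h, τ₂ := S.t h, τ₃ := imT S h
        comm₁₂ := kerT_ι S h
        comm₂₃ := (imπ_imT S h).symm }
    have h0 : ((imSys S).T h n z).comp (hE j).extClass rfl = 0 :=
      (HofPush_connect (uM Xs h) (hE i) (hE j) φ n z).symm.trans hj
    obtain ⟨x, hx⟩ := Ext.covariant_sequence_exact₃ _ (hE j) ((imSys S).T h n z) rfl h0
    refine ⟨j, x, ?_⟩
    rw [← hA j x]
    exact (congrArg ((imSys S).A j n) hx).trans ((imSys S).A_T h n z)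
  · obtain ⟨j, h, hj⟩ := hm.2 i (x.comp (Ext.mk₀ (imπ S i)) (add_zero n)) ((hA i x).trans hx)
    rw [hT] at hj
    obtain ⟨k, hk⟩ := Ext.covariant_sequence_exact₂ _ (hE j) (S.T h n x) hj
    obtain ⟨l, h', hl⟩ := kill S hS j n k
    refine ⟨l, h.trans h', ?_⟩
    rw [← S.T_T h h', ← hk]
    show EtLim.HofPush (uM Xs h') (S.F l) n ((k.comp (Ext.mk₀ (kernel.ι (S.a j))) (add_zero n)).comp
      (Ext.mk₀ (S.t h')) (add_zero n)) = 0
    rw [Ext.comp_assoc_of_third_deg_zero, Ext.mk₀_comp_mk₀, ← kerT_ι, ← Ext.mk₀_comp_mk₀,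
      ← Ext.comp_assoc_of_third_deg_zero, HofPush_comp, hl, Ext.zero_comp]

end Gen

/-- Sections of a quotient on the limit come, locally at a stage, from sections upstairs. -/
def HasCovers (Xs : ιᵒᵖ ⥤ Scheme.{u}) (c : Cone Xs) : Prop :=
  ∀ (S : ShortComplex (EtCoh.Ab c.pt)), S.ShortExact → ∀ (i : ι) (V : (Xs.obj (op i)).Etale),
    CompactSpace V.left → QuasiSeparatedSpace V.left →
    ∀ s : ((EtCoh.push (pr Xs c i)).obj S.X₃).obj.obj (op V),
      ∃ (j : ι) (h : i ≤ j) (y : ((EtCoh.push (pr Xs c j)).obj S.X₃).obj.obj (op ((EtCoh.bc (uM Xs h)).obj V))),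
        ((pc (pr Xs c j) (uM Xs h) (pr Xs c i) (pr_w h)).hom.app S.X₃).hom.app (op V) y = s ∧
        ∀ v : ((EtCoh.bc (uM Xs h)).obj V).left, ∃ (V' : (Xs.obj (op j)).Etale) (f : V' ⟶ (EtCoh.bc (uM Xs h)).obj V),
          v ∈ Set.range f.left.base ∧ ∃ t : ((EtCoh.push (pr Xs c j)).obj S.X₂).obj.obj (op V'),
            ((EtCoh.push (pr Xs c j)).map S.g).hom.app (op V') t =
              ((EtCoh.push (pr Xs c j)).obj S.X₃).obj.map f.op y

lemma eq_zero_of_covers {Y : Scheme.{u}} (F : EtCoh.Ab Y) (U : Y.Etale) (s : F.obj.obj (op U))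
    {V : U.left → Y.Etale} (f : ∀ v, V v ⟶ U) (hv : ∀ v, v ∈ Set.range (f v).left.base)
    (h : ∀ v, F.obj.map (f v).op s = 0) : s = 0 := by
  let R : Sieve U :=
    { arrows := fun W g => F.obj.map g.op s = 0
      downward_closed := by
        intro W W' g hg k
        rw [op_comp, Functor.map_comp_apply, hg]
        exact map_zero _ }
  have hR : R ∈ Y.smallEtaleTopology U := by
    rw [EtSite.mem_et_iff]
    intro v
    obtain ⟨w, hw⟩ := hv v
    exact ⟨V v, f v, w, h v, hw⟩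
  have hF : Presieve.IsSheaf Y.smallEtaleTopology (F.obj ⋙ forget AddCommGrpCat.{u + 1}) :=
    (isSheaf_iff_isSheaf_of_type _ _).1
      ((Presheaf.isSheaf_iff_isSheaf_forget Y.smallEtaleTopology F.obj (forget AddCommGrpCat.{u + 1})).1 F.property)
  refine (hF R hR).isSeparatedFor.ext fun W g hg => ?_
  show F.obj.map g.op s = F.obj.map g.op 0
  rw [(hg : F.obj.map g.op s = 0), map_zero]

lemma mem_range_of_locally {Y : Scheme.{u}} {M N : EtCoh.Ab Y} (k : M ⟶ N) [Mono k] (U : Y.Etale)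
    (y : N.obj.obj (op U))
    (h : ∀ v : U.left, ∃ (V : Y.Etale) (f : V ⟶ U), v ∈ Set.range f.left.base ∧
      ∃ z, k.hom.app (op V) z = N.obj.map f.op y) : ∃ z, k.hom.app (op U) z = y := by
  choose V f hv z hz using h
  have hc : (cokernel.π k).hom.app (op U) y = 0 := by
    refine eq_zero_of_covers (cokernel k) U _ f hv fun v => ?_
    rw [← NatTrans.naturality_apply (cokernel.π k).hom (f v).op y, ← hz]
    exact congrArg (fun t : M ⟶ cokernel k => t.hom.app (op (V v)) (z v)) (cokernel.condition k)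
  obtain ⟨z', hz'⟩ := exists_sec_kernel (cokernel.π k) U y hc
  refine ⟨(inv (Abelian.factorThruImage k)).hom.app (op U) z', ?_⟩
  have e : inv (Abelian.factorThruImage k) ≫ k = Abelian.image.ι k := by
    rw [← cancel_epi (Abelian.factorThruImage k), IsIso.hom_inv_id_assoc]
    exact (Abelian.image.fac k).symm
  exact (congrArg (fun t : Abelian.image k ⟶ N => t.hom.app (op U) z') e).trans hz'

section Step

variable (hcov : HasCovers Xs c) {S : ShortComplex (EtCoh.Ab c.pt)} (hS : S.ShortExact)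

/-- The images of the direct images of an epimorphism. -/
noncomputable abbrev qF (S : ShortComplex (EtCoh.Ab c.pt)) (i : ι) : EtCoh.Ab (Xs.obj (op i)) :=
  cokernel ((EtCoh.push (pr Xs c i)).map S.f)

noncomputable abbrev qA (S : ShortComplex (EtCoh.Ab c.pt)) (i : ι) : qF S i ⟶ (EtCoh.push (pr Xs c i)).obj S.X₃ :=
  cokernel.desc _ ((EtCoh.push (pr Xs c i)).map S.g) (by
    rw [← Functor.map_comp, S.zero, Functor.map_zero])

include hS in
lemma mono_qA (i : ι) : Mono (qA S i) := by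
  haveI := (EtCoh.pullPushAdj (pr Xs c i)).isRightAdjoint
  haveI := hS.mono_f
  exact (hS.exact.map_of_mono_of_preservesKernel (EtCoh.push (pr Xs c i)) hS.mono_f inferInstance).mono_cokernelDesc

noncomputable def qT (S : ShortComplex (EtCoh.Ab c.pt)) {i j : ι} (h : i ≤ j) :
    qF S i ⟶ (EtCoh.push (uM Xs h)).obj (qF S j) :=
  cokernel.desc _ ((can Xs c S.X₂).t h ≫ (EtCoh.push (uM Xs h)).map (cokernel.π _)) (by
    rw [← Category.assoc]
    erw [(pc (pr Xs c j) (uM Xs h) (pr Xs c i) (pr_w h)).inv.naturality S.f]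
    rw [Category.assoc, Functor.comp_map]
    erw [← Functor.map_comp, cokernel.condition]
    rw [Functor.map_zero]
    exact comp_zero)

/-- The system of these images. -/
noncomputable abbrev qSys : Sys Xs c :=
  haveI := mono_qA (Xs := Xs) hS
  Sys.ofMono Xs c (qF S) S.X₃ (qA S) (fun {i j} h => qT S h) (fun {i j} h => by
    rw [← cancel_epi (cokernel.π ((EtCoh.push (pr Xs c i)).map S.f))]
    erw [cokernel.π_desc, cokernel.π_desc_assoc]
    rw [Category.assoc, bmap, ← Functor.map_comp_assoc]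
    erw [cokernel.π_desc, (pc (pr Xs c j) (uM Xs h) (pr Xs c i) (pr_w h)).hom.naturality S.g]
    exact (Category.assoc _ _ _).symm.trans ((congrArg (fun t => t ≫ (EtCoh.push (pr Xs c i)).map S.g)
      (Iso.inv_hom_id_app _ _)).trans (Category.id_comp _)))

include hcov in
lemma isLim_qSys : (qSys (Xs := Xs) hS).IsLim where
  surj i V hV hV' s := by
    obtain ⟨j, h, y, hy, hloc⟩ := hcov S hS i V hV hV' s
    haveI := mono_qA (Xs := Xs) hS j
    obtain ⟨z, hz⟩ := mem_range_of_locally (qA S j) _ y fun v => by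
      obtain ⟨V', f, hv, t, ht⟩ := hloc v
      refine ⟨V', f, hv, (cokernel.π ((EtCoh.push (pr Xs c j)).map S.f)).hom.app (op V') t, ?_⟩
      exact (congrArg (fun m : (EtCoh.push (pr Xs c j)).obj S.X₂ ⟶ (EtCoh.push (pr Xs c j)).obj S.X₃ =>
        m.hom.app (op V') t) (cokernel.π_desc _ _ _)).trans ht
    refine ⟨j, h, z, ?_⟩
    exact (congrArg (((pc (pr Xs c j) (uM Xs h) (pr Xs c i) (pr_w h)).hom.app S.X₃).hom.app (op V)) hz).trans hy
  inj i V hV hV' s hs := by
    haveI := mono_qA (Xs := Xs) hS i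
    refine ⟨i, le_rfl, ?_⟩
    rw [injective_app_of_mono (qA S i) V (hs.trans (map_zero _).symm)]
    exact map_zero _

end Step

lemma can_A (G : EtCoh.Ab c.pt) (i : ι) (n : ℕ) (x : EtCoh.H (Xs.obj (op i)) ((EtCoh.push (pr Xs c i)).obj G) n) :
    (can Xs c G).A i n x = EtLim.HofPush (pr Xs c i) G n x := by
  show EtLim.HofPush (pr Xs c i) G n (x.comp (Ext.mk₀ (𝟙 _)) (add_zero n)) = _
  rw [Ext.comp_mk₀_id]

lemma comp_g_extClass {C : Type*} [Category C] [Abelian C] [HasExt.{u + 1} C] {E : ShortComplex C}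
    (hE : E.ShortExact) {P : C} {n : ℕ} (w : Ext P E.X₂ n) :
    (w.comp (Ext.mk₀ E.g) (add_zero n)).comp hE.extClass rfl = 0 := by
  rw [Ext.comp_assoc_of_second_deg_zero, hE.comp_extClass, Ext.comp_zero]

set_option maxHeartbeats 1000000 in
/-- Cohomology of the limit is the colimit of the cohomology of direct images. -/
theorem good_can (hcov : HasCovers Xs c) : ∀ (n : ℕ) (G : EtCoh.Ab c.pt), (can Xs c G).Good n
  | 0, G => by
    refine ⟨fun ξ => ?_, fun i x hx => ⟨i, le_rfl, ?_⟩⟩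
    · obtain ⟨i⟩ := ‹Nonempty ι›
      obtain ⟨x, hx⟩ := (EtAcyc24.HofPush_zero_bijective (pr Xs c i) G).2 ξ
      exact ⟨i, x, (can_A G i 0 x).trans hx⟩
    · rw [show x = 0 from (EtAcyc24.HofPush_zero_bijective (pr Xs c i) G).1
        (((can_A G i 0 x).symm.trans hx).trans (map_zero _).symm), Sys.T_zero]
  | n + 1, G => by
    let S := ShortComplex.mk (Injective.ι G) (cokernel.π (Injective.ι G)) (cokernel.condition _)
    have hS : S.ShortExact := { exact := ShortComplex.exact_cokernel (Injective.ι G) }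
    haveI : Injective S.X₂ := inferInstanceAs (Injective (Injective.under G))
    have hq : (qSys (Xs := Xs) hS).Good n :=
      good_of_can _ (isLim_qSys hcov hS) n (good_can hcov n S.X₃)
    have hJ : (can Xs c S.X₂).Good n := good_can hcov n S.X₂
    let E : ∀ i : ι, ShortComplex (EtCoh.Ab (Xs.obj (op i))) := fun i =>
      ShortComplex.mk ((EtCoh.push (pr Xs c i)).map S.f) (cokernel.π _) (cokernel.condition _)
    have hE : ∀ i, (E i).ShortExact := fun i => by
      haveI := (EtCoh.pullPushAdj (pr Xs c i)).isRightAdjoint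
      haveI := hS.mono_f
      exact
        { exact := ShortComplex.exact_cokernel _
          mono_f := inferInstanceAs (Mono ((EtCoh.push (pr Xs c i)).map S.f))
          epi_g := inferInstanceAs (Epi (cokernel.π ((EtCoh.push (pr Xs c i)).map S.f))) }
    haveI : ∀ i, Injective (E i).X₂ := fun i => injective_push (pr Xs c i) S.X₂
    have hconn : ∀ (i : ι) (z : EtCoh.H (Xs.obj (op i)) ((qSys (Xs := Xs) hS).F i) n),
        EtLim.HofPush (pr Xs c i) G (n + 1) (z.comp (hE i).extClass rfl) =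
          ((qSys (Xs := Xs) hS).A i n z).comp hS.extClass rfl := fun i z => by
      let φ : E i ⟶ S.map (EtCoh.push (pr Xs c i)) :=
        { τ₁ := 𝟙 _, τ₂ := 𝟙 _, τ₃ := qA S i
          comm₁₂ := (Category.id_comp _).trans (Category.comp_id _).symm
          comm₂₃ := (Category.id_comp _).trans (cokernel.π_desc _ _ _).symm }
      refine Eq.trans ?_ (HofPush_connect (pr Xs c i) (hE i) hS φ n z)
      exact congrArg (EtLim.HofPush (pr Xs c i) G (n + 1)) (Ext.comp_mk₀_id _).symm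
    refine ⟨fun ξ => ?_, fun i x hx => ?_⟩
    · obtain ⟨ζ, rfl⟩ := Ext.covariant_sequence_exact₁ _ hS ξ (Ext.eq_zero_of_injective _) (n₀ := n) rfl
      obtain ⟨i, z, rfl⟩ := hq.1 ζ
      exact ⟨i, z.comp (hE i).extClass rfl, (can_A G i (n + 1) _).trans (hconn i z)⟩
    · obtain ⟨z, rfl⟩ := Ext.covariant_sequence_exact₁ _ (hE i) x (Ext.eq_zero_of_injective _) (n₀ := n) rfl
      rw [can_A] at hx
      obtain ⟨w, hw⟩ := Ext.covariant_sequence_exact₃ _ hS _ rfl ((hconn i z).symm.trans hx)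
      obtain ⟨j, wj, rfl⟩ := hJ.1 w
      obtain ⟨m, him, hjm⟩ := directed_of (· ≤ ·) i j
      let wm := (can Xs c S.X₂).T hjm n wj
      have hAw : ∀ (k : ι) (w' : EtCoh.H (Xs.obj (op k)) ((EtCoh.push (pr Xs c k)).obj S.X₂) n),
          (qSys (Xs := Xs) hS).A k n (w'.comp (Ext.mk₀ (E k).g) (add_zero n)) =
            ((can Xs c S.X₂).A k n w').comp (Ext.mk₀ S.g) (add_zero n) := fun k w' => by
        rw [can_A, ← HofPush_comp]
        show EtLim.HofPush (pr Xs c k) S.X₃ n ((w'.comp (Ext.mk₀ (E k).g) (add_zero n)).comp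
          (Ext.mk₀ (qA S k)) (add_zero n)) = _
        rw [Ext.comp_assoc_of_third_deg_zero, Ext.mk₀_comp_mk₀]
        erw [cokernel.π_desc]
      obtain ⟨l, hl, hz⟩ := hq.2 m ((qSys (Xs := Xs) hS).T him n z - wm.comp (Ext.mk₀ (E m).g) (add_zero n)) (by
        rw [Sys.A_sub, Sys.A_T, hAw, Sys.A_T, sub_eq_zero]
        exact hw.symm)
      rw [Sys.T_sub, sub_eq_zero, Sys.T_T] at hz
      refine ⟨l, him.trans hl, ?_⟩
      let φ : ∀ {a b : ι} (h : a ≤ b), E a ⟶ (E b).map (EtCoh.push (uM Xs h)) := fun {a b} h =>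
        { τ₁ := (can Xs c G).t h, τ₂ := (can Xs c S.X₂).t h, τ₃ := qT S h
          comm₁₂ := ((pc (pr Xs c b) (uM Xs h) (pr Xs c a) (pr_w h)).inv.naturality S.f).symm
          comm₂₃ := (cokernel.π_desc _ _ _).symm }
      refine (HofPush_connect (uM Xs (him.trans hl)) (hE i) (hE l) (φ (him.trans hl)) n z).trans ?_
      refine (congrArg (fun t => Ext.comp t (hE l).extClass rfl) hz).trans ?_
      have e2 : (qSys (Xs := Xs) hS).T hl n (wm.comp (Ext.mk₀ (E m).g) (add_zero n)) =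
          ((can Xs c S.X₂).T hl n wm).comp (Ext.mk₀ (E l).g) (add_zero n) := by
        show EtLim.HofPush (uM Xs hl) _ n ((wm.comp (Ext.mk₀ (E m).g) (add_zero n)).comp
          (Ext.mk₀ (qT S hl)) (add_zero n)) = (EtLim.HofPush (uM Xs hl) _ n _).comp _ _
        rw [← HofPush_comp, Ext.comp_assoc_of_third_deg_zero, Ext.comp_assoc_of_third_deg_zero,
          Ext.mk₀_comp_mk₀, Ext.mk₀_comp_mk₀]
        exact congrArg (fun t => EtLim.HofPush (uM Xs hl) (qF S l) n (wm.comp (Ext.mk₀ t) (add_zero n)))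
          (φ hl).comm₂₃.symm
      refine (congrArg (fun t => Ext.comp t (hE l).extClass rfl) e2).trans ?_
      exact comp_g_extClass (hE l) _

/-- Cohomology of the limit is the colimit, for any system. -/
theorem good (hcov : HasCovers Xs c) (S : Sys Xs c) (hS : S.IsLim) (n : ℕ) : S.Good n :=
  good_of_can S hS n (good_can hcov n S.G)

end Groth.Agent.EtLim24
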