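import Groth.Agent.Lib.EtLim24.PullBase
import Groth.Agent.Lib.EtColim.Sections24

/-!
# Sections of inverse images on a limit of schemes come from a stage
-/

set_option autoImplicit false
set_option linter.style.haveILetI false
set_option linter.unusedSectionVars false
set_option backward.isDefEq.respectTransparency.types false

universe u

open CategoryTheory CategoryTheory.Limits AlgebraicGeometry Opposite

namespace Groth.Agent.EtLim24

open Groth.Agent.EtStalk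

variable {ι : Type u} [Preorder ι] (Xs : ιᵒᵖ ⥤ Scheme.{u}) (c : Cone Xs)

/-- A system of sheaves with its inverse images on the limit. -/
structure PullSys where
  F : ∀ i : ι, EtCoh.Ab (Xs.obj (op i))
  D : ι ⥤ EtCoh.Ab c.pt
  η : ∀ i, F i ⟶ (EtCoh.push (pr Xs c i)).obj (D.obj i)
  isPullUnit : ∀ i, IsPullUnit (η i)
  t : ∀ ⦃i j : ι⦄ (h : i ≤ j), F i ⟶ (EtCoh.push (uM Xs h)).obj (F j)
  fac : ∀ ⦃i j : ι⦄ (h : i ≤ j),
    t h ≫ bmap h (η j) = η i ≫ (EtCoh.push (pr Xs c i)).map (D.map (homOfLE h))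

variable {Xs c}

lemma qcqs_bc {A B : Scheme.{u}} (v : A ⟶ B) (hv : IsAffineHom v) (V : B.Etale) [hV : CompactSpace V.left]
    [hV' : QuasiSeparatedSpace V.left] :
    CompactSpace ((EtCoh.bc v).obj V).left ∧ QuasiSeparatedSpace ((EtCoh.bc v).obj V).left := by
  haveI : IsAffineHom v := hv
  haveI : CompactSpace ↥((𝟭 Scheme).obj V.left) := hV
  haveI : QuasiSeparatedSpace ↥((𝟭 Scheme).obj V.left) := hV'
  haveI h₁ : QuasiCompact (pullback.fst V.hom v) :=
    MorphismProperty.pullback_fst (P := @QuasiCompact) V.hom v inferInstance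
  haveI h₂ : QuasiSeparated (pullback.fst V.hom v) :=
    MorphismProperty.pullback_fst (P := @QuasiSeparated) V.hom v inferInstance
  have e₁ : CompactSpace ↥(pullback V.hom v) := QuasiCompact.compactSpace_of_compactSpace (pullback.fst V.hom v)
  have e₂ : QuasiSeparatedSpace ↥(pullback V.hom v) := quasiSeparatedSpace_of_quasiSeparated (pullback.fst V.hom v)
  exact ⟨e₁, e₂⟩

namespace PullSys

variable (P : PullSys Xs c)

/-- The transition map of the direct images of the inverse images. -/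
noncomputable def τ {i j : ι} (h : i ≤ j) : (EtCoh.push (pr Xs c i)).obj (P.D.obj i) ⟶
    (EtCoh.push (uM Xs h)).obj ((EtCoh.push (pr Xs c j)).obj (P.D.obj j)) :=
  (EtCoh.push (pr Xs c i)).map (P.D.map (homOfLE h)) ≫
    (pc (pr Xs c j) (uM Xs h) (pr Xs c i) (pr_w h)).inv.app (P.D.obj j)

lemma τ_pc {i j : ι} (h : i ≤ j) :
    P.τ h ≫ (pc (pr Xs c j) (uM Xs h) (pr Xs c i) (pr_w h)).hom.app (P.D.obj j) =
      (EtCoh.push (pr Xs c i)).map (P.D.map (homOfLE h)) := by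
  rw [τ, Category.assoc, Iso.inv_hom_id_app]
  exact Category.comp_id _

lemma fac' {i j : ι} (h : i ≤ j) :
    P.t h ≫ (EtCoh.push (uM Xs h)).map (P.η j) = P.η i ≫ P.τ h := by
  rw [← cancel_mono ((pc (pr Xs c j) (uM Xs h) (pr Xs c i) (pr_w h)).hom.app (P.D.obj j)), Category.assoc,
    Category.assoc, τ_pc]
  exact P.fac h

lemma fac_app {i j : ι} (h : i ≤ j) (V : (Xs.obj (op i)).Etale) (s : (P.F i).obj.obj (op V)) :
    (P.η j).hom.app (op ((EtCoh.bc (uM Xs h)).obj V)) ((P.t h).hom.app (op V) s) =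
      (P.τ h).hom.app (op V) ((P.η i).hom.app (op V) s) :=
  congrArg (fun r : P.F i ⟶ (EtCoh.push (uM Xs h)).obj ((EtCoh.push (pr Xs c j)).obj (P.D.obj j)) =>
    r.hom.app (op V) s) (P.fac' h)

lemma agree_t {i j : ι} (h : i ≤ j) (V : (Xs.obj (op i)).Etale) (s s' : (P.F i).obj.obj (op V))
    (v : ((EtCoh.bc (uM Xs h)).obj V).left) (hv : pullback.fst V.hom (uM Xs h) v ∈ agree (P.F i) s s') :
    v ∈ agree (P.F j) (U := (EtCoh.bc (uM Xs h)).obj V) ((P.t h).hom.app (op V) s) ((P.t h).hom.app (op V) s') := by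
  obtain ⟨W, g, ⟨w, hw⟩, he⟩ := hv
  obtain ⟨w', hw'⟩ := exists_of_isPullback (EtCoh.isPullback_bc_map (uM Xs h) g).flip w v hw
  refine ⟨(EtCoh.bc (uM Xs h)).obj W, (EtCoh.bc (uM Xs h)).map g, ⟨w', hw'⟩, ?_⟩
  refine (NatTrans.naturality_apply (P.t h).hom g.op s).symm.trans (Eq.trans ?_
    (NatTrans.naturality_apply (P.t h).hom g.op s'))
  exact congrArg ((P.t h).hom.app (op W)) he

variable [IsDirected ι (· ≤ ·)] [Nonempty ι]

lemma isSheafFor_family {Y : Scheme.{u}} (G : EtCoh.Ab Y) (U : Y.Etale) {A : Type u} (Va : A → Y.Etale)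
    (f : ∀ a, Va a ⟶ U) (hf : ∀ x : U.left, ∃ a, x ∈ Set.range (f a).left.base) :
    Presieve.IsSheafFor (G.obj ⋙ forget AddCommGrpCat) (Presieve.ofArrows Va f) := by
  rw [Presieve.isSheafFor_iff_generate]
  refine ((isSheaf_iff_isSheaf_of_type _ _).1 ((sheafCompose _ (forget AddCommGrpCat.{u + 1})).obj G).property) _ ?_
  rw [EtSite.mem_et_iff]
  intro x
  obtain ⟨a, y, hy⟩ := hf x
  exact ⟨Va a, f a, y, ⟨_, 𝟙 _, f a, Presieve.ofArrows.mk a, Category.id_comp _⟩, hy⟩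

lemma compact_bc (haff : ∀ ⦃a b : ιᵒᵖ⦄ (h : a ⟶ b), IsAffineHom (Xs.map h))
    (hc : IsLimit c) {k : ι} (V : (Xs.obj (op k)).Etale) [CompactSpace V.left] :
    CompactSpace ↥((EtCoh.bc (pr Xs c k)).obj V).left := by
  haveI : ∀ (a b : ιᵒᵖ) (h : a ⟶ b), IsAffineHom (Xs.map h) := fun a b h => haff h
  haveI := isAffineHom_π_app _ _ hc (op k)
  haveI : CompactSpace ↥((𝟭 Scheme).obj V.left) := ‹CompactSpace V.left›
  haveI : QuasiCompact (pullback.fst V.hom (c.π.app (op k))) :=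
    MorphismProperty.pullback_fst (P := @QuasiCompact) V.hom (c.π.app (op k)) inferInstance
  haveI h : CompactSpace ↥(pullback V.hom (c.π.app (op k))) :=
    QuasiCompact.compactSpace_of_compactSpace (pullback.fst V.hom (c.π.app (op k)))
  exact h

/-- Gluing at a stage. -/
theorem glue (haff : ∀ ⦃a b : ιᵒᵖ⦄ (h : a ⟶ b), IsAffineHom (Xs.map h)) (hc : IsLimit c) {j : ι}
    (V : (Xs.obj (op j)).Etale) [CompactSpace V.left] [QuasiSeparatedSpace V.left]
    (r : ((EtCoh.push (pr Xs c j)).obj (P.D.obj j)).obj.obj (op V))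
    {A : Type u} [Finite A] (Va : A → (Xs.obj (op j)).Etale) [∀ a, CompactSpace (Va a).left]
    [∀ a, QuasiSeparatedSpace (Va a).left] (f : ∀ a, Va a ⟶ V) (y : ∀ a, (P.F j).obj.obj (op (Va a)))
    (hy : ∀ a, (P.η j).hom.app (op (Va a)) (y a) =
      ((EtCoh.push (pr Xs c j)).obj (P.D.obj j)).obj.map (f a).op r)
    (hcov : ∀ z : ((EtCoh.bc (pr Xs c j)).obj V).left,
      ∃ a, pullback.fst V.hom (pr Xs c j) z ∈ Set.range (f a).left.base) :
    ∃ (M : ι) (h : j ≤ M) (yM : (P.F M).obj.obj (op ((EtCoh.bc (uM Xs h)).obj V))),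
      (P.η M).hom.app (op ((EtCoh.bc (uM Xs h)).obj V)) yM = (P.τ h).hom.app (op V) r := by
  classical
  let Q : A × A → (Xs.obj (op j)).Etale := fun ab => pullback (f ab.1) (f ab.2)
  let d : ∀ ab : A × A, (P.F j).obj.obj (op (Q ab)) := fun ab =>
    (P.F j).obj.map (pullback.fst (f ab.1) (f ab.2)).op (y ab.1)
  let d' : ∀ ab : A × A, (P.F j).obj.obj (op (Q ab)) := fun ab =>
    (P.F j).obj.map (pullback.snd (f ab.1) (f ab.2)).op (y ab.2)
  haveI : ∀ ab, CompactSpace (Q ab).left := fun ab =>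
    (EtColim.qcqs_isPullback (IsPullback.of_hasPullback (f ab.1) (f ab.2)) ⟨inferInstance, inferInstance⟩
      ⟨inferInstance, inferInstance⟩ ⟨‹_›, ‹_›⟩).1
  have hd : ∀ ab, (P.η j).hom.app (op (Q ab)) (d ab) = (P.η j).hom.app (op (Q ab)) (d' ab) := by
    intro ab
    rw [NatTrans.naturality_apply (P.η j).hom, NatTrans.naturality_apply (P.η j).hom, hy, hy,
      ← Functor.map_comp_apply, ← Functor.map_comp_apply, ← op_comp, ← op_comp, pullback.condition]
  haveI := P.isPullUnit j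
  obtain ⟨m₁, h₁, hm₁⟩ := exists_stage_forall haff hc Q
    (fun ab => ⟨agree (P.F j) (d ab) (d' ab), isOpen_agree _ _ _⟩)
    (fun ab z => mem_agree_pullUnit (P.η j) (Q ab) _ _ (hd ab) z)
  let O : V.left.Opens := ⟨⋃ a, Set.range (show (Va a).left ⟶ V.left from (f a).left).base, isOpen_iUnion fun a => by
    haveI := etale_left (f a)
    exact (f a).left.isOpenMap.isOpen_range⟩
  obtain ⟨m₂, h₂, hm₂⟩ := exists_stage_subset haff hc V O (fun z => Set.mem_iUnion.2 (hcov z))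
  obtain ⟨M, hM₁, hM₂⟩ := directed_of (· ≤ ·) m₁ m₂
  have hjM : j ≤ M := h₁.trans hM₁
  let U := (EtCoh.bc (uM Xs hjM)).obj V
  let f' : ∀ a, (EtCoh.bc (uM Xs hjM)).obj (Va a) ⟶ U := fun a => (EtCoh.bc (uM Xs hjM)).map (f a)
  have hcov' : ∀ x : U.left, ∃ a, x ∈ Set.range (f' a).left.base := by
    intro x
    obtain ⟨a, w, hw⟩ := Set.mem_iUnion.1 (subset_mono h₂ hM₂ V O hm₂ x)
    obtain ⟨w', hw'⟩ := exists_of_isPullback (EtCoh.isPullback_bc_map (uM Xs hjM) (f a)).flip w x hw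
    exact ⟨a, w', hw'⟩
  let x : ∀ a, (P.F M).obj.obj (op ((EtCoh.bc (uM Xs hjM)).obj (Va a))) := fun a =>
    (P.t hjM).hom.app (op (Va a)) (y a)
  have hx : Presieve.Arrows.Compatible ((P.F M).obj ⋙ forget AddCommGrpCat) f' x := by
    intro a b T g g' hg
    have sq := (IsPullback.of_hasPullback (f a) (f b)).map (EtCoh.bc (uM Xs hjM))
    have e : (P.t hjM).hom.app (op (Q (a, b))) (d (a, b)) = (P.t hjM).hom.app (op (Q (a, b))) (d' (a, b)) :=
      eq_of_agree (P.F M) fun v => P.agree_t hjM (Q (a, b)) _ _ v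
        (subset_mono h₁ hM₁ (Q (a, b)) _ (hm₁ (a, b)) v)
    have e₁ := NatTrans.naturality_apply (P.t hjM).hom (pullback.fst (f a) (f b)).op (y a)
    have e₂ := NatTrans.naturality_apply (P.t hjM).hom (pullback.snd (f a) (f b)).op (y b)
    show (P.F M).obj.map g.op (x a) = (P.F M).obj.map g'.op (x b)
    rw [← sq.lift_fst g g' hg, op_comp, Functor.map_comp_apply]
    conv_rhs => rw [← sq.lift_snd g g' hg, op_comp, Functor.map_comp_apply]
    exact congrArg ((P.F M).obj.map (sq.lift g g' hg).op) (e₁.symm.trans (e.trans e₂))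
  obtain ⟨yM, hyM, -⟩ := Presieve.isSheafFor_arrows_iff _ _ |>.1 (isSheafFor_family (P.F M) U _ f' hcov') x hx
  refine ⟨M, hjM, yM, ?_⟩
  refine (isSheafFor_family ((EtCoh.push (pr Xs c M)).obj (P.D.obj M)) U _ f' hcov').isSeparatedFor.ext ?_
  rintro T g ⟨a⟩
  refine (NatTrans.naturality_apply (P.η M).hom (f' a).op yM).symm.trans ?_
  refine Eq.trans ?_ (NatTrans.naturality_apply (P.τ hjM).hom (f a).op r)
  refine (congrArg _ (hyM a)).trans ?_
  exact (P.fac_app hjM (Va a) (y a)).trans (congrArg ((P.τ hjM).hom.app (op (Va a))) (hy a))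

/-- Gluing at a stage, for any family covering the image of the limit. -/
theorem glue_of_cover (haff : ∀ ⦃a b : ιᵒᵖ⦄ (h : a ⟶ b), IsAffineHom (Xs.map h)) (hc : IsLimit c) {j : ι}
    (V : (Xs.obj (op j)).Etale) [CompactSpace V.left] [QuasiSeparatedSpace V.left]
    (r : ((EtCoh.push (pr Xs c j)).obj (P.D.obj j)).obj.obj (op V))
    {A : Type u} (Va : A → (Xs.obj (op j)).Etale) (f : ∀ a, Va a ⟶ V) (y : ∀ a, (P.F j).obj.obj (op (Va a)))
    (hy : ∀ a, (P.η j).hom.app (op (Va a)) (y a) =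
      ((EtCoh.push (pr Xs c j)).obj (P.D.obj j)).obj.map (f a).op r)
    (hcov : ∀ z : ((EtCoh.bc (pr Xs c j)).obj V).left,
      ∃ a, pullback.fst V.hom (pr Xs c j) z ∈ Set.range (f a).left.base) :
    ∃ (M : ι) (h : j ≤ M) (yM : (P.F M).obj.obj (op ((EtCoh.bc (uM Xs h)).obj V))),
      (P.η M).hom.app (op ((EtCoh.bc (uM Xs h)).obj V)) yM = (P.τ h).hom.app (op V) r := by
  classical
  haveI : ∀ (a b : ιᵒᵖ) (h : a ⟶ b), IsAffineHom (Xs.map h) := fun a b h => haff h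
  choose a v hv using hcov
  choose W hW hvW _ using fun z => exists_isAffineOpen_mem_and_subset (X := (Va (a z)).left) (x := v z) (U := ⊤)
    trivial
  let g := fun z => EtSite.subHom (Va (a z)) (W z) ≫ f (a z)
  haveI : ∀ z, IsAffine (EtSite.sub (Va (a z)) (W z)).left := hW
  let B : ((EtCoh.bc (pr Xs c j)).obj V).left → Set ((EtCoh.bc (pr Xs c j)).obj V).left := fun z => pullback.fst V.hom (pr Xs c j) ⁻¹' Set.range (g z).left.base
  have hB : ∀ z, IsOpen (B z) := fun z => by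
    haveI := etale_left (g z)
    exact (g z).left.isOpenMap.isOpen_range.preimage (pullback.fst V.hom (pr Xs c j)).continuous
  have hzB : ∀ z, z ∈ B z := fun z => ⟨⟨v z, hvW z⟩, hv z⟩
  haveI : CompactSpace ↥((EtCoh.bc (pr Xs c j)).obj V).left := compact_bc haff hc V
  obtain ⟨A', hA⟩ := isCompact_univ.elim_finite_subcover B hB (fun z _ => Set.mem_iUnion.2 ⟨z, hzB z⟩)
  refine P.glue haff hc V r (fun z : A' => EtSite.sub (Va (a z.1)) (W z.1)) (fun z => g z.1)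
    (fun z => (P.F j).obj.map (EtSite.subHom (Va (a z.1)) (W z.1)).op (y (a z.1))) (fun z => ?_) (fun z => ?_)
  · rw [NatTrans.naturality_apply (P.η j).hom, hy, op_comp, Functor.map_comp_apply]
  · obtain ⟨w, hw, hzw⟩ := Set.mem_iUnion₂.1 (hA (Set.mem_univ z))
    exact ⟨⟨w, hw⟩, hzw⟩

omit [IsDirected ι (· ≤ ·)] [Nonempty ι] in
lemma stg_τ {k m : ι} {V : (Xs.obj (op k)).Etale} {W' : c.pt.Etale}
    {g : W' ⟶ (EtCoh.bc (c.π.app (op k))).obj V} (σ : Stg V g m)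
    (a b : ((EtCoh.push (pr Xs c k)).obj (P.D.obj k)).obj.obj (op V))
    (h : (P.D.obj k).obj.map g.op a = (P.D.obj k).obj.map g.op b) :
    ((EtCoh.push (pr Xs c m)).obj (P.D.obj m)).obj.map σ.f.op ((P.τ σ.le).hom.app (op V) a) =
      ((EtCoh.push (pr Xs c m)).obj (P.D.obj m)).obj.map σ.f.op ((P.τ σ.le).hom.app (op V) b) := by
  have key : ∀ d : ((EtCoh.push (pr Xs c k)).obj (P.D.obj k)).obj.obj (op V),
      ((EtCoh.push (pr Xs c m)).obj (P.D.obj m)).obj.map σ.f.op ((P.τ σ.le).hom.app (op V) d) =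
        (P.D.obj m).obj.map σ.e.op ((P.D.map (homOfLE σ.le)).hom.app (op W') ((P.D.obj k).obj.map g.op d)) := by
    intro d
    show (P.D.obj m).obj.map ((EtCoh.bc (pr Xs c m)).map σ.f).op
      (((pc (pr Xs c m) (uM Xs σ.le) (pr Xs c k) (pr_w σ.le)).inv.app (P.D.obj m)).hom.app (op V)
        ((P.D.map (homOfLE σ.le)).hom.app (op ((EtCoh.bc (pr Xs c k)).obj V)) d)) = _
    rw [pc_inv_app, NatTrans.naturality_apply (P.D.map (homOfLE σ.le)).hom g.op d]
    refine (Functor.map_comp_apply (P.D.obj m).obj _ _ _).symm.trans ?_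
    refine Eq.trans ?_ (Functor.map_comp_apply (P.D.obj m).obj _ _ _)
    rw [← op_comp, ← op_comp, σ.comp_bc]
  rw [key, key, h]

lemma cover_of_stg {k m : ι} (hkm : k ≤ m) (V : (Xs.obj (op k)).Etale)
    (A : Finset ↥((EtCoh.bc (pr Xs c k)).obj V).left) {Pz : ↥((EtCoh.bc (pr Xs c k)).obj V).left → (Xs.obj (op k)).Etale}
    (fz : ∀ z, Pz z ⟶ V) {W' : ↥((EtCoh.bc (pr Xs c k)).obj V).left → c.pt.Etale}
    (g : ∀ z, W' z ⟶ (EtCoh.bc (pr Xs c k)).obj (Pz z)) (σ : ∀ z : A, Stg (Pz z.1) (g z.1) m)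
    (hA : Set.univ ⊆ ⋃ z ∈ A, Set.range (g z ≫ (EtCoh.bc (pr Xs c k)).map (fz z)).left.base)
    (w : ((EtCoh.bc (pr Xs c m)).obj ((EtCoh.bc (uM Xs hkm)).obj V)).left) :
    ∃ z : A, pullback.fst ((EtCoh.bc (uM Xs hkm)).obj V).hom (pr Xs c m) w ∈
      Set.range ((σ z).f ≫ (EtCoh.bc (uM Xs hkm)).map (fz z.1)).left.base := by
  let θ := (bcc (pr Xs c m) (uM Xs hkm) (pr Xs c k) (pr_w hkm)).app V
  obtain ⟨z, hzA, v, hv⟩ := Set.mem_iUnion₂.1 (hA (Set.mem_univ (θ.hom.left w)))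
  let s := σ ⟨z, hzA⟩
  haveI := s.isIso_e
  obtain ⟨v', rfl⟩ : ∃ v', s.e.left v' = v := ⟨inv s.e.left v, by
    rw [← Scheme.Hom.comp_apply, IsIso.inv_hom_id]; rfl⟩
  let f := s.f ≫ (EtCoh.bc (uM Xs hkm)).map (fz z)
  have h1 : (EtCoh.bc (pr Xs c m)).map f ≫ θ.hom = s.e ≫ g z ≫ (EtCoh.bc (pr Xs c k)).map (fz z) := by
    show (EtCoh.bc (pr Xs c m)).map (s.f ≫ (EtCoh.bc (uM Xs hkm)).map (fz z)) ≫ _ = _
    rw [Functor.map_comp, Category.assoc, ← Category.assoc s.e, s.comp_bc, Category.assoc]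
    exact congrArg (_ ≫ ·) ((bcc (pr Xs c m) (uM Xs hkm) (pr Xs c k) (pr_w hkm)).hom.naturality (fz z))
  have h2 : ((EtCoh.bc (pr Xs c m)).map f).left v' = w := by
    have e1 : θ.hom.left (((EtCoh.bc (pr Xs c m)).map f).left v') = θ.hom.left w := by
      refine Eq.trans ?_ hv
      exact congrArg (fun t : (EtCoh.bc (pr Xs c m)).obj s.V' ⟶ (EtCoh.bc (pr Xs c k)).obj V => t.left v') h1
    have e2 : ∀ x, θ.inv.left (θ.hom.left x) = x := fun x =>
      congrArg (fun t : (EtCoh.bc (pr Xs c m)).obj ((EtCoh.bc (uM Xs hkm)).obj V) ⟶ _ => t.left x) θ.hom_inv_id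
    rw [← e2 w, ← e1, e2]
  refine ⟨⟨z, hzA⟩, pullback.fst s.V'.hom (pr Xs c m) v', ?_⟩
  exact (congrArg (fun r : ((EtCoh.bc (pr Xs c m)).obj s.V').left ⟶ _ => r v')
    (EtCoh.isPullback_bc_map (pr Xs c m) f).w).symm.trans
      (congrArg (pullback.fst ((EtCoh.bc (uM Xs hkm)).obj V).hom (pr Xs c m)) h2)

omit [IsDirected ι (· ≤ ·)] [Nonempty ι] in
lemma lift_comp {k m M : ι} (h₁ : k ≤ m) (h₂ : m ≤ M) (V : (Xs.obj (op k)).Etale)
    (r : ((EtCoh.push (pr Xs c k)).obj (P.D.obj k)).obj.obj (op V))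
    (yM : (P.F M).obj.obj (op ((EtCoh.bc (uM Xs h₂)).obj ((EtCoh.bc (uM Xs h₁)).obj V))))
    (hy : (P.η M).hom.app (op ((EtCoh.bc (uM Xs h₂)).obj ((EtCoh.bc (uM Xs h₁)).obj V))) yM =
      (P.τ h₂).hom.app (op ((EtCoh.bc (uM Xs h₁)).obj V)) ((P.τ h₁).hom.app (op V) r)) :
    (bmap (h₁.trans h₂) (P.η M)).hom.app (op V) ((tcomp h₁ h₂ (P.F M)).hom.app (op V) yM) =
      ((EtCoh.push (pr Xs c k)).map (P.D.map (homOfLE (h₁.trans h₂)))).hom.app (op V) r := by
  let p₁ := (pc (pr Xs c m) (uM Xs h₁) (pr Xs c k) (pr_w h₁)).hom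
  let p₂ := (pc (pr Xs c M) (uM Xs h₂) (pr Xs c m) (pr_w h₂)).hom
  have hm : P.τ h₁ ≫ (EtCoh.push (uM Xs h₁)).map (P.τ h₂ ≫ p₂.app (P.D.obj M)) ≫ p₁.app (P.D.obj M) =
      (EtCoh.push (pr Xs c k)).map (P.D.map (homOfLE (h₁.trans h₂))) := by
    rw [P.τ_pc h₂]
    erw [p₁.naturality (P.D.map (homOfLE h₂))]
    rw [← Category.assoc, P.τ_pc h₁]
    erw [← Functor.map_comp, ← P.D.map_comp]
    rfl
  refine (congrArg (fun q : (EtCoh.push (uM Xs h₁)).obj ((EtCoh.push (uM Xs h₂)).obj (P.F M)) ⟶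
    (EtCoh.push (pr Xs c k)).obj (P.D.obj M) => q.hom.app (op V) yM) (bmap_comp h₁ h₂ (P.η M))).trans ?_
  refine Eq.trans ?_ (congrArg (fun q : (EtCoh.push (pr Xs c k)).obj (P.D.obj k) ⟶
    (EtCoh.push (pr Xs c k)).obj (P.D.obj M) => q.hom.app (op V) r) hm)
  exact congrArg (fun q => (p₁.app (P.D.obj M)).hom.app (op V)
    ((p₂.app (P.D.obj M)).hom.app (op ((EtCoh.bc (uM Xs h₁)).obj V)) q)) hy

/-- Sections of an inverse image come from a stage. -/
theorem exists_lift (haff : ∀ ⦃a b : ιᵒᵖ⦄ (h : a ⟶ b), IsAffineHom (Xs.map h)) (hc : IsLimit c) {k : ι}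
    (V : (Xs.obj (op k)).Etale) [CompactSpace V.left] [QuasiSeparatedSpace V.left]
    (r : ((EtCoh.push (pr Xs c k)).obj (P.D.obj k)).obj.obj (op V)) :
    ∃ (M : ι) (h : k ≤ M) (y : ((EtCoh.push (uM Xs h)).obj (P.F M)).obj.obj (op V)),
      (bmap h (P.η M)).hom.app (op V) y =
        ((EtCoh.push (pr Xs c k)).map (P.D.map (homOfLE h))).hom.app (op V) r := by
  classical
  haveI : ∀ (a b : ιᵒᵖ) (h : a ⟶ b), IsAffineHom (Xs.map h) := fun a b h => haff h
  haveI := P.isPullUnit k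
  choose Pz hPz fz yz z₀ hz₀ hag using fun z => exists_local_pullUnit (P.η k) V r z
  haveI := hPz
  have hW : ∀ z, ∃ W : ((EtCoh.bc (pr Xs c k)).obj (Pz z)).left.Opens, IsAffineOpen W ∧ z₀ z ∈ W ∧
      (W : Set _) ⊆ agree (P.D.obj k) (U := (EtCoh.bc (pr Xs c k)).obj (Pz z)) ((P.η k).hom.app (op (Pz z)) (yz z))
        (((EtCoh.push (pr Xs c k)).obj (P.D.obj k)).obj.map (fz z).op r) := fun z =>
    exists_isAffineOpen_mem_and_subset (U := ⟨_, isOpen_agree _ _ _⟩) (hag z)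
  choose W hWaff hzW hWsub using hW
  let g := fun z => EtSite.subHom ((EtCoh.bc (pr Xs c k)).obj (Pz z)) (W z)
  haveI : ∀ z, IsAffine (EtSite.sub ((EtCoh.bc (pr Xs c k)).obj (Pz z)) (W z)).left := hWaff
  let B := fun z => Set.range (g z ≫ (EtCoh.bc (pr Xs c k)).map (fz z)).left.base
  have hB : ∀ z, IsOpen (B z) := fun z => by
    haveI := etale_left (g z ≫ (EtCoh.bc (pr Xs c k)).map (fz z))
    exact (g z ≫ (EtCoh.bc (pr Xs c k)).map (fz z)).left.isOpenMap.isOpen_range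
  have hzB : ∀ z, z ∈ B z := fun z => ⟨⟨z₀ z, hzW z⟩, by
    rw [comp_left', Scheme.Hom.comp_apply]
    exact hz₀ z⟩
  haveI : CompactSpace ↥((EtCoh.bc (pr Xs c k)).obj V).left := compact_bc haff hc V
  obtain ⟨A, hA⟩ := isCompact_univ.elim_finite_subcover B hB (fun z _ => Set.mem_iUnion.2 ⟨z, hzB z⟩)
  have hst : ∀ z, ∃ j, Nonempty (Stg (Pz z) (g z) j) := fun z => exists_stg haff hc (Pz z) (g z)
  choose j hj using hst
  obtain ⟨m, hm⟩ := Finset.exists_le (insert k (A.image j))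
  have hkm : k ≤ m := hm k (Finset.mem_insert_self _ _)
  let σ : ∀ z : A, Stg (Pz z.1) (g z.1) m := fun z =>
    (hj z.1).some.up (hm _ (Finset.mem_insert_of_mem (Finset.mem_image_of_mem j z.2)))
  let V₁ := (EtCoh.bc (uM Xs hkm)).obj V
  haveI hV₁ : CompactSpace V₁.left ∧ QuasiSeparatedSpace V₁.left := qcqs_bc (uM Xs hkm) (haff _) V
  haveI := hV₁.1; haveI := hV₁.2
  let y : ∀ z : A, (P.F m).obj.obj (op (σ z).V') := fun z =>
    (P.F m).obj.map (σ z).f.op ((P.t (σ z).le).hom.app (op (Pz z.1)) (yz z.1))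
  let f : ∀ z : A, (σ z).V' ⟶ V₁ := fun z => (σ z).f ≫ (EtCoh.bc (uM Xs hkm)).map (fz z.1)
  have hy : ∀ z : A, (P.η m).hom.app (op (σ z).V') (y z) =
      ((EtCoh.push (pr Xs c m)).obj (P.D.obj m)).obj.map (f z).op ((P.τ hkm).hom.app (op V) r) := by
    intro z
    let R := ((EtCoh.push (pr Xs c k)).obj (P.D.obj k)).obj.map (fz z.1).op r
    let R' := (P.η k).hom.app (op (Pz z.1)) (yz z.1)
    refine (NatTrans.naturality_apply (P.η m).hom (σ z).f.op _).trans ?_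
    refine Eq.trans ?_ (Functor.map_comp_apply ((EtCoh.push (pr Xs c m)).obj (P.D.obj m)).obj
      ((EtCoh.bc (uM Xs hkm)).map (fz z.1)).op (σ z).f.op _).symm
    refine (congrArg _ (P.fac_app hkm (Pz z.1) (yz z.1))).trans ?_
    show _ = ((EtCoh.push (pr Xs c m)).obj (P.D.obj m)).obj.map (σ z).f.op
      (((EtCoh.push (pr Xs c m)).obj (P.D.obj m)).obj.map ((EtCoh.bc (uM Xs hkm)).map (fz z.1)).op
        ((P.τ hkm).hom.app (op V) r))
    refine Eq.trans ?_ (congrArg _ (NatTrans.naturality_apply (P.τ hkm).hom (fz z.1).op r))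
    exact P.stg_τ (σ z) R' R (eq_of_agree _ fun v => (mem_agree_map _ (g z.1) R' R v).2 (hWsub z.1 v.2))
  have hcov : ∀ w : ((EtCoh.bc (pr Xs c m)).obj V₁).left,
      ∃ z, pullback.fst V₁.hom (pr Xs c m) w ∈ Set.range (f z).left.base :=
    fun w => cover_of_stg hkm V A fz g σ hA w
  obtain ⟨M, hmM, yM, hyM⟩ := P.glue_of_cover haff hc V₁ ((P.τ hkm).hom.app (op V) r) (fun z : A => (σ z).V') f y hy hcov
  refine ⟨M, hkm.trans hmM, (tcomp hkm hmM (P.F M)).hom.app (op V) yM, ?_⟩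
  exact P.lift_comp hkm hmM V r yM hyM

/-- The system with values in a cocone of the inverse images. -/
noncomputable abbrev toSys (cc : Cocone P.D)
    (hco : ∀ ⦃i j k : ι⦄ (h₁ : i ≤ j) (h₂ : j ≤ k),
      P.t (h₁.trans h₂) = P.t h₁ ≫ (EtCoh.push (uM Xs h₁)).map (P.t h₂) ≫ tcomp h₁ h₂ (P.F k)) : Sys Xs c where
  F := P.F
  G := cc.pt
  a i := P.η i ≫ (EtCoh.push (pr Xs c i)).map (cc.ι.app i)
  t := P.t
  fac i j h := by
    have hn : bmap h (P.η j ≫ (EtCoh.push (pr Xs c j)).map (cc.ι.app j)) =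
        bmap h (P.η j) ≫ (EtCoh.push (pr Xs c i)).map (cc.ι.app j) := by
      rw [bmap, bmap, Functor.map_comp, Category.assoc, Category.assoc]
      exact congrArg (fun q => (EtCoh.push (uM Xs h)).map (P.η j) ≫ q)
        ((pc (pr Xs c j) (uM Xs h) (pr Xs c i) (pr_w h)).hom.naturality (cc.ι.app j))
    rw [hn, ← Category.assoc, P.fac h, Category.assoc, ← Functor.map_comp, cc.w]
  cocycle := hco

/-- The colimit of the inverse images is the colimit on sections. -/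
theorem isLim_toSys (haff : ∀ ⦃a b : ιᵒᵖ⦄ (h : a ⟶ b), IsAffineHom (Xs.map h)) (hc : IsLimit c)
    (cc : Cocone P.D) (hcc : IsColimit cc)
    (hco : ∀ ⦃i j k : ι⦄ (h₁ : i ≤ j) (h₂ : j ≤ k),
      P.t (h₁.trans h₂) = P.t h₁ ≫ (EtCoh.push (uM Xs h₁)).map (P.t h₂) ≫ tcomp h₁ h₂ (P.F k)) :
    (P.toSys cc hco).IsLim := by
  haveI : ∀ (a b : ιᵒᵖ) (h : a ⟶ b), IsAffineHom (Xs.map h) := fun a b h => haff h
  have hW : ∀ {i : ι} (V : (Xs.obj (op i)).Etale) [CompactSpace V.left] [QuasiSeparatedSpace V.left],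
      CompactSpace ((EtCoh.bc (pr Xs c i)).obj V).left ∧ QuasiSeparatedSpace ((EtCoh.bc (pr Xs c i)).obj V).left :=
    fun {i} V _ _ => qcqs_bc (pr Xs c i) (isAffineHom_π_app _ _ hc (op i)) V
  constructor
  · intro i V hV hV' s
    haveI := hV; haveI := hV'
    haveI := (hW V).1; haveI := (hW V).2
    obtain ⟨k₀, r₀, hr₀⟩ := EtColim.exists_sec_rep ((EtCoh.bc (pr Xs c i)).obj V) hcc s
    obtain ⟨k, hik, hk₀⟩ := directed_of (· ≤ ·) i k₀
    let V₁ := (EtCoh.bc (uM Xs hik)).obj V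
    haveI := (qcqs_bc (uM Xs hik) (haff _) V).1; haveI := (qcqs_bc (uM Xs hik) (haff _) V).2
    let r₁ : (P.D.obj k).obj.obj (op ((EtCoh.bc (pr Xs c i)).obj V)) :=
      (P.D.map (homOfLE hk₀)).hom.app (op _) r₀
    let r : ((EtCoh.push (pr Xs c k)).obj (P.D.obj k)).obj.obj (op V₁) :=
      ((pc (pr Xs c k) (uM Xs hik) (pr Xs c i) (pr_w hik)).inv.app (P.D.obj k)).hom.app (op V) r₁
    obtain ⟨M, hkM, y, hy⟩ := P.exists_lift haff hc V₁ r
    refine ⟨M, hik.trans hkM, (tcomp hik hkM (P.F M)).hom.app (op V) y, ?_⟩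
    let p := (pc (pr Xs c k) (uM Xs hik) (pr Xs c i) (pr_w hik))
    let a := P.η M ≫ (EtCoh.push (pr Xs c M)).map (cc.ι.app M)
    have hn : ∀ {m : ι} (h : m ≤ M), bmap h a = bmap h (P.η M) ≫ (EtCoh.push (pr Xs c m)).map (cc.ι.app M) := by
      intro m h
      show bmap h (P.η M ≫ (EtCoh.push (pr Xs c M)).map (cc.ι.app M)) = _
      rw [bmap, bmap, Functor.map_comp, Category.assoc, Category.assoc]
      exact congrArg (fun q => (EtCoh.push (uM Xs h)).map (P.η M) ≫ q)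
        ((pc (pr Xs c M) (uM Xs h) (pr Xs c m) (pr_w h)).hom.naturality (cc.ι.app M))
    show (bmap (hik.trans hkM) a).hom.app (op V) _ = s
    refine (congrArg (fun q : (EtCoh.push (uM Xs hik)).obj ((EtCoh.push (uM Xs hkM)).obj (P.F M)) ⟶
      (EtCoh.push (pr Xs c i)).obj cc.pt => q.hom.app (op V) y) (bmap_comp hik hkM a)).trans ?_
    show (p.hom.app cc.pt).hom.app (op V) ((bmap hkM a).hom.app (op V₁) y) = s
    rw [hn hkM]
    refine (congrArg (fun q => (p.hom.app cc.pt).hom.app (op V)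
      (((EtCoh.push (pr Xs c k)).map (cc.ι.app M)).hom.app (op V₁) q)) hy).trans ?_
    have hw : p.inv.app (P.D.obj k) ≫ (EtCoh.push (uM Xs hik)).map ((EtCoh.push (pr Xs c k)).map
        (P.D.map (homOfLE hkM) ≫ cc.ι.app M)) ≫ p.hom.app cc.pt =
        (EtCoh.push (pr Xs c i)).map (cc.ι.app k) := by
      erw [p.hom.naturality (P.D.map (homOfLE hkM) ≫ cc.ι.app M)]
      rw [← Category.assoc, Iso.inv_hom_id_app, cc.w]
      exact Category.id_comp _
    refine (congrArg (fun q : (EtCoh.push (pr Xs c i)).obj (P.D.obj k) ⟶ (EtCoh.push (pr Xs c i)).obj cc.pt =>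
      q.hom.app (op V) r₁) hw).trans ?_
    show (cc.ι.app k).hom.app (op _) ((P.D.map (homOfLE hk₀)).hom.app (op _) r₀) = s
    exact (congrArg (fun q : P.D.obj k₀ ⟶ cc.pt => q.hom.app (op _) r₀) (cc.w (homOfLE hk₀))).trans hr₀
  · intro i V hV hV' s hs
    haveI := hV; haveI := hV'
    haveI := (hW V).1; haveI := (hW V).2
    let s' : (P.D.obj i).obj.obj (op ((EtCoh.bc (pr Xs c i)).obj V)) := (P.η i).hom.app (op V) s
    have hs' : (cc.ι.app i).hom.app (op _) s' = (cc.ι.app i).hom.app (op _) 0 := by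
      rw [map_zero]
      exact hs
    obtain ⟨k, a, ha⟩ := EtColim.exists_sec_eq ((EtCoh.bc (pr Xs c i)).obj V) hcc i s' 0 hs'
    have hik : i ≤ k := leOfHom a
    let p := (pc (pr Xs c k) (uM Xs hik) (pr Xs c i) (pr_w hik))
    let V₁ := (EtCoh.bc (uM Xs hik)).obj V
    haveI := (qcqs_bc (uM Xs hik) (haff _) V).1; haveI := (qcqs_bc (uM Xs hik) (haff _) V).2
    let t₁ : (P.F k).obj.obj (op V₁) := (P.t hik).hom.app (op V) s
    have ht : (P.η k).hom.app (op V₁) t₁ = (P.η k).hom.app (op V₁) 0 := by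
      rw [map_zero]
      refine (P.fac_app hik V s).trans ?_
      show (p.inv.app (P.D.obj k)).hom.app (op V) ((P.D.map (homOfLE hik)).hom.app (op _) s') = 0
      rw [show (P.D.map (homOfLE hik)).hom.app (op _) s' = 0 from ha.trans (map_zero _)]
      exact map_zero _
    haveI := P.isPullUnit k
    obtain ⟨M, hkM, hM⟩ := exists_stage_subset haff hc V₁ ⟨agree (P.F k) t₁ 0, isOpen_agree _ _ _⟩
      (fun z => mem_agree_pullUnit (P.η k) V₁ _ _ ht z)
    refine ⟨M, hik.trans hkM, ?_⟩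
    have h0 : (P.t hkM).hom.app (op V₁) t₁ = (P.t hkM).hom.app (op V₁) 0 :=
      eq_of_agree (P.F M) fun v => P.agree_t hkM V₁ _ _ v (hM v)
    refine (congrArg (fun q : P.F i ⟶ (EtCoh.push (uM Xs (hik.trans hkM))).obj (P.F M) => q.hom.app (op V) s)
      (hco hik hkM)).trans ?_
    refine (congrArg ((tcomp hik hkM (P.F M)).hom.app (op V)) h0).trans ?_
    rw [map_zero]
    exact map_zero _

end PullSys

end Groth.Agent.EtLim24
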