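import Groth.Agent.Lib.EtLim24.Covers
import Groth.Agent.Lib.EtStalk.Agree
import Mathlib.CategoryTheory.Sites.Whiskering

/-!
# Systems of inverse images: preliminaries
-/

set_option autoImplicit false
set_option linter.style.haveILetI false
set_option linter.unusedSectionVars false
set_option backward.isDefEq.respectTransparency.types false

universe u

open CategoryTheory CategoryTheory.Limits AlgebraicGeometry Opposite

namespace Groth.Agent.EtLim24

open Groth.Agent.EtStalk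

/-- A morphism to a direct image exhibiting the target as the inverse image. -/
abbrev IsPullUnit {A B : Scheme.{u}} {π : A ⟶ B} {F : EtCoh.Ab B} {D : EtCoh.Ab A}
    (η : F ⟶ (EtCoh.push π).obj D) : Prop :=
  IsIso (((EtCoh.pullPushAdj π).homEquiv F D).symm η)

section Unit

variable {A B : Scheme.{u}} {π : A ⟶ B} {F : EtCoh.Ab B} {D : EtCoh.Ab A}
  (η : F ⟶ (EtCoh.push π).obj D) [IsPullUnit η]

lemma pullUnit_app (V : B.Etale) (s : F.obj.obj (op V)) :
    η.hom.app (op V) s = (((EtCoh.pullPushAdj π).homEquiv F D).symm η).hom.app (op ((EtCoh.bc π).obj V))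
      (((EtCoh.pullPushAdj π).unit.app F).hom.app (op V) s) := by
  have h : η = (EtCoh.pullPushAdj π).unit.app F ≫
      (EtCoh.push π).map (((EtCoh.pullPushAdj π).homEquiv F D).symm η) :=
    (((EtCoh.pullPushAdj π).homEquiv F D).apply_symm_apply η).symm.trans ((EtCoh.pullPushAdj π).homEquiv_unit _ _ _)
  exact congrArg (fun r : F ⟶ (EtCoh.push π).obj D => r.hom.app (op V) s) h

lemma mem_agree_pullUnit (V : B.Etale) (s t : F.obj.obj (op V))
    (h : η.hom.app (op V) s = η.hom.app (op V) t) (z : ((EtCoh.bc π).obj V).left) :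
    pullback.fst V.hom π z ∈ agree F s t := by
  refine (mem_agree_unit π F s t z).1 ?_
  have := injective_app_of_mono (((EtCoh.pullPushAdj π).homEquiv F D).symm η) ((EtCoh.bc π).obj V)
  rw [this ((pullUnit_app η V s).symm.trans (h.trans (pullUnit_app η V t)))]
  exact agree_self _ _ _

lemma exists_germ_pullUnit {Ω : Type u} [Field Ω] [IsSepClosed Ω] (ξ : Spec (CommRingCat.of Ω) ⟶ A)
    (p : (EtCoh.stalk ξ).obj D) :
    ∃ (U : B.Etale) (x : fib (ξ ≫ π) U) (y : F.obj.obj (op U)),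
      germ ξ D (liftFib π ξ x) (η.hom.app (op U) y) = p := by
  obtain ⟨q, rfl⟩ := (ConcreteCategory.bijective_of_isIso
    ((EtCoh.stalk ξ).map (((EtCoh.pullPushAdj π).homEquiv F D).symm η))).2 p
  obtain ⟨q₀, rfl⟩ := (ConcreteCategory.bijective_of_isIso (stalkPull π ξ F)).2 q
  obtain ⟨U, x, y, rfl⟩ := germ_surjective (ξ ≫ π) F q₀
  refine ⟨U, x, y, ?_⟩
  rw [germ_stalkPull, germ_nat, pullUnit_app]

/-- The lift is natural. -/
lemma map_liftFib {Ω : Type u} [Field Ω] [IsSepClosed Ω] (ξ : Spec (CommRingCat.of Ω) ⟶ A) {W W' : B.Etale}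
    (g : W ⟶ W') (w : fib (ξ ≫ π) W) :
    (Scheme.pointSmallEtale ξ).fiber.map ((EtCoh.bc π).map g) (liftFib π ξ w) =
      liftFib π ξ ((Scheme.pointSmallEtale (ξ ≫ π)).fiber.map g w) :=
  Over.OverMorphism.ext (by
    refine pullback.hom_ext ?_ ?_
    · refine Eq.trans ?_ (pullback.lift_fst _ _ _).symm
      refine (Category.assoc _ _ _).trans ?_
      refine (congrArg (pullback.lift w.left ξ _ ≫ ·) (EtCoh.isPullback_bc_map π g).w).trans ?_
      exact (Category.assoc _ _ _).symm.trans (congrArg (· ≫ g.left) (pullback.lift_fst _ _ _))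
    · refine Eq.trans ?_ (pullback.lift_snd _ _ _).symm
      refine (Category.assoc _ _ _).trans ?_
      refine (congrArg (pullback.lift w.left ξ _ ≫ ·) (MorphismProperty.Over.w
        ((EtCoh.bc π).map g))).trans ?_
      exact pullback.lift_snd _ _ _)

lemma liftFib_dropFib {Ω : Type u} [Field Ω] [IsSepClosed Ω] (ξ : Spec (CommRingCat.of Ω) ⟶ A) {W : B.Etale}
    (φ : fib ξ ((EtCoh.bc π).obj W)) : liftFib π ξ (dropFib π ξ φ) = φ :=
  Over.OverMorphism.ext (pullback.hom_ext (pullback.lift_fst _ _ _)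
    ((pullback.lift_snd _ _ _).trans (Over.w φ).symm))

/-- Sections of the inverse image are locally inverse images of sections. -/
theorem exists_local_pullUnit (V : B.Etale) (r : ((EtCoh.push π).obj D).obj.obj (op V))
    (z : ((EtCoh.bc π).obj V).left) :
    ∃ (P : B.Etale) (_ : IsAffine P.left) (f : P ⟶ V) (y : F.obj.obj (op P))
      (z₀ : ((EtCoh.bc π).obj P).left), ((EtCoh.bc π).map f).left z₀ = z ∧
        z₀ ∈ agree D (U := (EtCoh.bc π).obj P) (η.hom.app (op P) y)
          (((EtCoh.push π).obj D).obj.map f.op r) := by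
  obtain ⟨φ, hφ⟩ := exists_fib ((EtCoh.bc π).obj V) z
  let ξ := geomPt A (((EtCoh.bc π).obj V).hom z)
  let r' : D.obj.obj (op ((EtCoh.bc π).obj V)) := r
  obtain ⟨U, x, y₀, hy₀⟩ := exists_germ_pullUnit η ξ (germ ξ D φ r')
  let xV : fib (ξ ≫ π) V := dropFib π ξ φ
  haveI : AlgebraicGeometry.Etale U.hom := U.prop
  haveI : AlgebraicGeometry.Etale V.hom := V.prop
  let Q : B.Etale := Scheme.Etale.mk (pullback.fst V.hom U.hom ≫ V.hom)
  let fV : Q ⟶ V := MorphismProperty.Over.homMk (pullback.fst V.hom U.hom) rfl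
  let fU : Q ⟶ U := MorphismProperty.Over.homMk (pullback.snd V.hom U.hom) pullback.condition.symm
  have hxx : xV.left ≫ V.hom = x.left ≫ U.hom := (Over.w xV).trans (Over.w x).symm
  let xQ : fib (ξ ≫ π) Q := Over.homMk (pullback.lift xV.left x.left hxx)
    ((Category.assoc _ _ _).symm.trans ((congrArg (· ≫ V.hom) (pullback.lift_fst _ _ hxx)).trans (Over.w xV)))
  have hQV : (Scheme.pointSmallEtale (ξ ≫ π)).fiber.map fV xQ = xV :=
    Over.OverMorphism.ext (pullback.lift_fst _ _ hxx)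
  have hQU : (Scheme.pointSmallEtale (ξ ≫ π)).fiber.map fU xQ = x :=
    Over.OverMorphism.ext (pullback.lift_snd _ _ hxx)
  have hlV : (Scheme.pointSmallEtale ξ).fiber.map ((EtCoh.bc π).map fV) (liftFib π ξ xQ) = φ :=
    (map_liftFib ξ fV xQ).trans ((congrArg (liftFib π ξ) hQV).trans (liftFib_dropFib ξ φ))
  have hlU : (Scheme.pointSmallEtale ξ).fiber.map ((EtCoh.bc π).map fU) (liftFib π ξ xQ) = liftFib π ξ x :=
    (map_liftFib ξ fU xQ).trans (congrArg (liftFib π ξ) hQU)
  let φQ := liftFib π ξ xQ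
  have hag : fibPt φQ ∈ agree D (U := (EtCoh.bc π).obj Q) (η.hom.app (op Q) (F.obj.map fU.op y₀))
      (((EtCoh.push π).obj D).obj.map fV.op r) := by
    rw [mem_agree_iff_germ]
    refine Eq.trans ?_ (Eq.trans (hy₀.trans ?_) (germ_map ξ D ((EtCoh.bc π).map fV) φQ r').symm)
    · refine (congrArg (germ ξ D φQ) (NatTrans.naturality_apply η.hom fU.op y₀)).trans ?_
      refine (germ_map ξ D ((EtCoh.bc π).map fU) φQ _).trans ?_
      exact congrArg (fun t => germ ξ D t (η.hom.app (op U) y₀)) hlU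
    · exact (congrArg (fun t => germ ξ D t r') hlV).symm
  obtain ⟨W, hW, hpW, -⟩ := exists_isAffineOpen_mem_and_subset (X := Q.left)
    (x := pullback.fst Q.hom π (fibPt φQ)) (U := ⊤) trivial
  obtain ⟨z₀, hz₀⟩ := exists_of_isPullback (EtCoh.isPullback_bc_map π (EtSite.subHom Q W)).flip
    (⟨_, hpW⟩ : W) (fibPt φQ) rfl
  refine ⟨EtSite.sub Q W, hW, EtSite.subHom Q W ≫ fV, F.obj.map (EtSite.subHom Q W).op (F.obj.map fU.op y₀),
    z₀, ?_, ?_⟩
  · rw [Functor.map_comp, comp_left', Scheme.Hom.comp_apply]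
    refine (congrArg ((EtCoh.bc π).map fV).left hz₀).trans ?_
    exact (congrArg (fun t : fib ξ ((EtCoh.bc π).obj V) => fibPt t) hlV).trans hφ
  · rw [NatTrans.naturality_apply η.hom (EtSite.subHom Q W).op, op_comp, Functor.map_comp_apply]
    refine (mem_agree_map D ((EtCoh.bc π).map (EtSite.subHom Q W)) _ _ z₀).2 ?_
    exact (congrArg (fun p => p ∈ agree D _ _) hz₀).mpr hag

end Unit

section Stage

variable {ι : Type u} [Preorder ι] [IsDirected ι (· ≤ ·)] [Nonempty ι] {Xs : ιᵒᵖ ⥤ Scheme.{u}} {c : Cone Xs}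

/-- An open containing the image of the limit contains the image of a stage. -/
theorem exists_stage_subset (haff : ∀ ⦃a b : ιᵒᵖ⦄ (h : a ⟶ b), IsAffineHom (Xs.map h)) (hc : IsLimit c)
    {k : ι} (V : (Xs.obj (op k)).Etale) [CompactSpace V.left] (O : V.left.Opens)
    (hO : ∀ z : ((EtCoh.bc (pr Xs c k)).obj V).left, pullback.fst V.hom (pr Xs c k) z ∈ O) :
    ∃ (m : ι) (h : k ≤ m), ∀ v : ((EtCoh.bc (uM Xs h)).obj V).left, pullback.fst V.hom (uM Xs h) v ∈ O := by
  haveI : ∀ (a b : ιᵒᵖ) (h : a ⟶ b), IsAffineHom (Xs.map h) := fun a b h => haff h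
  let F := Over.forget (op k)
  let tt := Descend.overT Xs (op k)
  let c₀ : Cone (F ⋙ Xs) := c.whisker F
  have hc₀ : IsLimit c₀ := (Functor.Initial.isLimitWhiskerEquiv F c).symm hc
  have hq₀ : ∀ j, c₀.π.app j ≫ tt.app j = c.π.app (op k) := fun j => c.w j.hom
  have hW : IsPullback (pullback.fst V.hom (c.π.app (op k))) (pullback.snd V.hom (c.π.app (op k))) V.hom
      (c.π.app (op k)) := IsPullback.of_hasPullback _ _
  let E := Descend.pbDiagram (F ⋙ Xs) tt V.hom
  let cE := Descend.pbCone (F ⋙ Xs) tt V.hom c₀ hq₀ hW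
  have hE : IsLimit cE := Descend.pbIsLimit (F ⋙ Xs) tt V.hom c₀ hq₀ hW hc₀
  haveI : CompactSpace ↥((𝟭 Scheme).obj V.left) := ‹CompactSpace V.left›
  haveI : ∀ {a b : Over (op k)} (h : a ⟶ b), IsAffineHom (E.map h) := fun h => Descend.pb_isAffineHom_map _ _ _ h
  haveI : ∀ j, CompactSpace ↥(E.obj j) := fun j => Descend.pb_compactSpace _ _ _ j
  let k₁ : Over (op k) := Over.mk (𝟙 (op k))
  let p₁ : E.obj k₁ ⟶ V.left := pullback.fst V.hom (tt.app k₁)
  have hO₁ : cE.π.app k₁ ⁻¹ᵁ (p₁ ⁻¹ᵁ O) = ⊤ := by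
    rw [← top_le_iff]
    intro z _
    show (cE.π.app k₁ ≫ p₁) z ∈ O
    rw [Descend.pbCone_fst]
    exact hO z
  obtain ⟨k₂, a, ha⟩ := exists_map_eq_top E cE hE (i := k₁) _ hO₁
  refine ⟨k₂.left.unop, leOfHom k₂.hom.unop, fun v => ?_⟩
  have hv : v ∈ E.map a ⁻¹ᵁ (p₁ ⁻¹ᵁ O) := ha.ge (Set.mem_univ v)
  have hv' : (E.map a ≫ p₁) v ∈ O := hv
  rw [Descend.pbMap_fst] at hv'
  exact hv'

lemma subset_mono {k m m' : ι} (h : k ≤ m) (h' : m ≤ m') (V : (Xs.obj (op k)).Etale) (O : Set V.left)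
    (hO : ∀ v : ((EtCoh.bc (uM Xs h)).obj V).left, pullback.fst V.hom (uM Xs h) v ∈ O)
    (v : ((EtCoh.bc (uM Xs (h.trans h'))).obj V).left) : pullback.fst V.hom (uM Xs (h.trans h')) v ∈ O := by
  have e := bcc_inv_left_fst (uM Xs h') (uM Xs h) _ (uM_comp h h') V
  rw [← e]
  exact hO _

/-- Finitely many opens containing the image of the limit contain the image of a common stage. -/
theorem exists_stage_forall (haff : ∀ ⦃a b : ιᵒᵖ⦄ (h : a ⟶ b), IsAffineHom (Xs.map h)) (hc : IsLimit c)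
    {k : ι} {A : Type*} [Finite A] (V : A → (Xs.obj (op k)).Etale) [∀ a, CompactSpace (V a).left]
    (O : ∀ a, (V a).left.Opens)
    (hO : ∀ a (z : ((EtCoh.bc (pr Xs c k)).obj (V a)).left), pullback.fst (V a).hom (pr Xs c k) z ∈ O a) :
    ∃ (m : ι) (h : k ≤ m), ∀ a (v : ((EtCoh.bc (uM Xs h)).obj (V a)).left),
      pullback.fst (V a).hom (uM Xs h) v ∈ O a := by
  classical
  cases nonempty_fintype A
  choose m hkm hm using fun a => exists_stage_subset haff hc (V a) (O a) (hO a)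
  obtain ⟨M, hM⟩ := Finset.exists_le (insert k (Finset.univ.image m))
  refine ⟨M, hM k (Finset.mem_insert_self _ _), fun a v => ?_⟩
  exact subset_mono (hkm a) (hM _ (Finset.mem_insert_of_mem (Finset.mem_image_of_mem m (Finset.mem_univ a))))
    (V a) (O a) (hm a) v

end Stage

end Groth.Agent.EtLim24
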