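import Groth.Agent.Lib.EtColim.Sections24

/-!
# Cohomology of a union of subsheaves
-/

set_option autoImplicit false
set_option backward.isDefEq.respectTransparency.types false

universe u

open CategoryTheory CategoryTheory.Limits AlgebraicGeometry Opposite CategoryTheory.Abelian

namespace Groth.Agent.EtLim24

variable {Y : Scheme.{u}}

/-- A morphism of sheaves bijective on quasi-compact quasi-separated objects is an isomorphism. -/
theorem isIso_of_bijective_qcqs {M N : EtCoh.Ab Y} (f : M ⟶ N)
    (h : ∀ V : Y.Etale, CompactSpace V.left → QuasiSeparatedSpace V.left →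
      Function.Bijective (f.hom.app (op V))) : IsIso f := by
  haveI : IsIso (Functor.whiskerLeft (EtColim.incl Y).op f.hom) := by
    haveI : ∀ U, IsIso ((Functor.whiskerLeft (EtColim.incl Y).op f.hom).app U) := fun U =>
      (ConcreteCategory.isIso_iff_bijective _).2 (h _ U.unop.objDown.property.1 U.unop.objDown.property.2)
    exact NatIso.isIso_of_isIso_app _
  exact Functor.IsCoverDense.iso_of_restrict_iso (G := EtColim.incl Y)
    (K := Y.smallEtaleTopology) f inferInstance

variable {Λ : Type u} [Preorder Λ] [IsDirected Λ (· ≤ ·)] [Nonempty Λ] {M : EtCoh.Ab Y}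
  (P : Λ → EtCoh.Ab Y) (b : ∀ l, P l ⟶ M) [∀ l, Mono (b l)]
  (r : ∀ ⦃l l' : Λ⦄, l ≤ l' → (P l ⟶ P l')) (hr : ∀ ⦃l l' : Λ⦄ (h : l ≤ l'), r h ≫ b l' = b l)

/-- The diagram of subobjects. -/
noncomputable def unionDiagram : Λ ⥤ EtCoh.Ab Y where
  obj := P
  map f := r (leOfHom f)
  map_id l := (cancel_mono (b l)).1 ((hr _).trans (Category.id_comp _).symm)
  map_comp {l l' l''} f g := (cancel_mono (b l'')).1 (by
    rw [Category.assoc, hr, hr, hr])

/-- The cocone of a union. -/
noncomputable def unionCocone : Cocone (unionDiagram P b r hr) where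
  pt := M
  ι := { app := b, naturality := fun l l' f => (hr (leOfHom f)).trans (Category.comp_id _).symm }

theorem nonempty_isColimit_union (hcov : ∀ V : Y.Etale, CompactSpace V.left → QuasiSeparatedSpace V.left →
    ∀ s : M.obj.obj (op V), ∃ l y, (b l).hom.app (op V) y = s) :
    Nonempty (IsColimit (unionCocone P b r hr)) := by
  let hc := colimit.isColimit (unionDiagram P b r hr)
  let d := colimit.desc (unionDiagram P b r hr) (unionCocone P b r hr)
  have hd : ∀ l, colimit.ι (unionDiagram P b r hr) l ≫ d = b l := fun l => colimit.ι_desc _ _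
  have hd' : ∀ (l : Λ) (V : Y.Etale) (y : (P l).obj.obj (op V)),
      d.hom.app (op V) ((colimit.ι (unionDiagram P b r hr) l).hom.app (op V) y) = (b l).hom.app (op V) y :=
    fun l V y => congrArg (fun t : P l ⟶ M => t.hom.app (op V) y) (hd l)
  have hinj : ∀ (l : Λ) (V : Y.Etale), Function.Injective ((b l).hom.app (op V)) := fun l V => by
    haveI : Mono ((sheafToPresheaf _ _).map (b l)) := inferInstance
    haveI : Mono ((b l).hom.app (op V)) := (NatTrans.mono_iff_mono_app _).1 (this : Mono (b l).hom) (op V)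
    exact (AddCommGrpCat.mono_iff_injective _).1 inferInstance
  haveI : IsIso d := isIso_of_bijective_qcqs d fun V hV hV' => by
    haveI := hV; haveI := hV'
    refine ⟨(injective_iff_map_eq_zero (d.hom.app (op V)).hom).2 fun s hs => ?_, fun s => ?_⟩
    · obtain ⟨l, y, rfl⟩ := EtColim.exists_sec_rep V hc s
      have hy : (b l).hom.app (op V) y = 0 := (hd' l V y).symm.trans hs
      rw [show y = 0 from hinj l V (hy.trans (map_zero _).symm)]
      exact map_zero _
    · obtain ⟨l, y, rfl⟩ := hcov V hV hV' s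
      exact ⟨_, hd' l V y⟩
  exact ⟨hc.ofIsoColimit (Cocone.ext (asIso d) hd)⟩

variable [CompactSpace Y] [QuasiSeparatedSpace Y]

include hr in
/-- Classes of a union come from a member, and die in one. -/
theorem union_surj_inj (hcov : ∀ V : Y.Etale, CompactSpace V.left → QuasiSeparatedSpace V.left →
    ∀ s : M.obj.obj (op V), ∃ l y, (b l).hom.app (op V) y = s) (n : ℕ) :
    (∀ x : EtCoh.H Y M n, ∃ l, ∃ y : EtCoh.H Y (P l) n, y.comp (Ext.mk₀ (b l)) (add_zero n) = x) ∧
      (∀ (l : Λ) (y : EtCoh.H Y (P l) n), y.comp (Ext.mk₀ (b l)) (add_zero n) = 0 →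
        ∃ (l' : Λ) (h : l ≤ l'), y.comp (Ext.mk₀ (r h)) (add_zero n) = 0) := by
  obtain ⟨hc⟩ := nonempty_isColimit_union P b r hr hcov
  haveI := EtColim.preservesColimitsOfShape_HF_small Y n Λ
  let t := isColimitOfPreserves (EtCoh.HF Y n) hc
  refine ⟨fun x => ?_, fun l y hy => ?_⟩
  · exact Concrete.isColimit_exists_rep (unionDiagram P b r hr ⋙ EtCoh.HF Y n) t (x : EtCoh.H Y M n)
  obtain ⟨l', f, g, hfg⟩ :=
    Concrete.isColimit_exists_of_rep_eq (unionDiagram P b r hr ⋙ EtCoh.HF Y n) t y (0 : EtCoh.H Y (P l) n)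
      (hy.trans (map_zero _).symm)
  exact ⟨l', leOfHom f, hfg.trans (map_zero _)⟩

end Groth.Agent.EtLim24
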