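import Groth.Agent.Lib.EtLim24.Push
import Groth.Agent.Lib.EtLim24.Union
import Groth.Agent.Lib.EtSite.Sheaf

/-!
# Systems of sheaves on an inverse system of schemes
-/

set_option autoImplicit false
set_option linter.style.haveILetI false
set_option backward.isDefEq.respectTransparency.types false

universe u

open CategoryTheory CategoryTheory.Limits AlgebraicGeometry Opposite CategoryTheory.Abelian

namespace Groth.Agent.EtLim24

open Groth.Agent.EtStalk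

variable {ι : Type u} [Preorder ι] (Xs : ιᵒᵖ ⥤ Scheme.{u}) (c : Cone Xs)

/-- The transition morphism. -/
abbrev uM {i j : ι} (h : i ≤ j) : Xs.obj (op j) ⟶ Xs.obj (op i) := Xs.map (homOfLE h).op

/-- The projection. -/
abbrev pr (i : ι) : c.pt ⟶ Xs.obj (op i) := c.π.app (op i)

variable {Xs}

lemma uM_comp {i j k : ι} (h₁ : i ≤ j) (h₂ : j ≤ k) : uM Xs h₂ ≫ uM Xs h₁ = uM Xs (h₁.trans h₂) := by
  rw [← Functor.map_comp]; rfl

variable {c}

lemma pr_w {i j : ι} (h : i ≤ j) : pr Xs c j ≫ uM Xs h = pr Xs c i := c.w (homOfLE h).op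

/-- The map to the direct image of the limit attached to a stage. -/
noncomputable def bmap {i j : ι} (h : i ≤ j) {F : EtCoh.Ab (Xs.obj (op j))} {G : EtCoh.Ab c.pt}
    (a : F ⟶ (EtCoh.push (pr Xs c j)).obj G) :
    (EtCoh.push (uM Xs h)).obj F ⟶ (EtCoh.push (pr Xs c i)).obj G :=
  (EtCoh.push (uM Xs h)).map a ≫ (pc (pr Xs c j) (uM Xs h) (pr Xs c i) (pr_w h)).hom.app G

/-- Composite of transition maps. -/
noncomputable def tcomp {i j k : ι} (h₁ : i ≤ j) (h₂ : j ≤ k) (F : EtCoh.Ab (Xs.obj (op k))) :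
    (EtCoh.push (uM Xs h₁)).obj ((EtCoh.push (uM Xs h₂)).obj F) ⟶ (EtCoh.push (uM Xs (h₁.trans h₂))).obj F :=
  (pc (uM Xs h₂) (uM Xs h₁) _ (uM_comp h₁ h₂)).hom.app F

lemma bmap_comp {i j k : ι} (h₁ : i ≤ j) (h₂ : j ≤ k) {F : EtCoh.Ab (Xs.obj (op k))} {G : EtCoh.Ab c.pt}
    (a : F ⟶ (EtCoh.push (pr Xs c k)).obj G) :
    tcomp h₁ h₂ F ≫ bmap (h₁.trans h₂) a = (EtCoh.push (uM Xs h₁)).map (bmap h₂ a) ≫
      (pc (pr Xs c j) (uM Xs h₁) (pr Xs c i) (pr_w h₁)).hom.app G := by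
  have hn := (pc (uM Xs h₂) (uM Xs h₁) _ (uM_comp h₁ h₂)).hom.naturality a
  have hA := pc_assoc (pr Xs c k) (uM Xs h₂) (uM Xs h₁) (pr Xs c j) (uM Xs (h₁.trans h₂)) (pr Xs c i)
    (pr_w h₂) (uM_comp h₁ h₂) (pr_w h₁) (pr_w (h₁.trans h₂)) G
  simp only [bmap, tcomp, Functor.map_comp, Category.assoc]
  erw [← Category.assoc, ← hn, Category.assoc, hA]
  rfl

instance mono_push_map {A B : Scheme.{u}} (f : A ⟶ B) {F F' : EtCoh.Ab A} (a : F ⟶ F') [Mono a] :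
    Mono ((EtCoh.push f).map a) := by
  haveI := (EtCoh.pullPushAdj f).isRightAdjoint
  infer_instance

instance mono_bmap {i j : ι} (h : i ≤ j) {F : EtCoh.Ab (Xs.obj (op j))} {G : EtCoh.Ab c.pt}
    (a : F ⟶ (EtCoh.push (pr Xs c j)).obj G) [Mono a] : Mono (bmap h a) := by
  unfold bmap; infer_instance

variable (Xs c)

/-- A system of sheaves with a sheaf on the limit. -/
structure Sys where
  F : ∀ i : ι, EtCoh.Ab (Xs.obj (op i))
  G : EtCoh.Ab c.pt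
  a : ∀ i, F i ⟶ (EtCoh.push (pr Xs c i)).obj G
  t : ∀ ⦃i j : ι⦄ (h : i ≤ j), F i ⟶ (EtCoh.push (uM Xs h)).obj (F j)
  fac : ∀ ⦃i j : ι⦄ (h : i ≤ j), t h ≫ bmap h (a j) = a i
  cocycle : ∀ ⦃i j k : ι⦄ (h₁ : i ≤ j) (h₂ : j ≤ k),
    t (h₁.trans h₂) = t h₁ ≫ (EtCoh.push (uM Xs h₁)).map (t h₂) ≫ tcomp h₁ h₂ (F k)

variable {Xs c}

namespace Sys

/-- The sheaf on the limit is the colimit, on qcqs sections. -/
structure IsLim (S : Sys Xs c) : Prop where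
  surj : ∀ (i : ι) (V : (Xs.obj (op i)).Etale), CompactSpace V.left → QuasiSeparatedSpace V.left →
    ∀ s : ((EtCoh.push (pr Xs c i)).obj S.G).obj.obj (op V),
      ∃ (j : ι) (h : i ≤ j) (y : ((EtCoh.push (uM Xs h)).obj (S.F j)).obj.obj (op V)),
        (bmap h (S.a j)).hom.app (op V) y = s
  inj : ∀ (i : ι) (V : (Xs.obj (op i)).Etale), CompactSpace V.left → QuasiSeparatedSpace V.left →
    ∀ s : (S.F i).obj.obj (op V), (S.a i).hom.app (op V) s = 0 →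
      ∃ (j : ι) (h : i ≤ j), (S.t h).hom.app (op V) s = 0

variable [∀ a, PreservesFiniteLimits (EtCoh.pull (c.π.app a))]
  [∀ ⦃a b : ιᵒᵖ⦄ (h : a ⟶ b), PreservesFiniteLimits (EtCoh.pull (Xs.map h))] (S : Sys Xs c)

/-- To the cohomology of the limit. -/
noncomputable def A (i : ι) (n : ℕ) (x : EtCoh.H (Xs.obj (op i)) (S.F i) n) : EtCoh.H c.pt S.G n :=
  EtLim.HofPush (pr Xs c i) S.G n (x.comp (Ext.mk₀ (S.a i)) (add_zero n))

/-- Transition. -/
noncomputable def T {i j : ι} (h : i ≤ j) (n : ℕ) (x : EtCoh.H (Xs.obj (op i)) (S.F i) n) :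
    EtCoh.H (Xs.obj (op j)) (S.F j) n :=
  EtLim.HofPush (uM Xs h) (S.F j) n (x.comp (Ext.mk₀ (S.t h)) (add_zero n))

lemma A_bmap {i j : ι} (h : i ≤ j) (n : ℕ) (y : EtCoh.H (Xs.obj (op i)) ((EtCoh.push (uM Xs h)).obj (S.F j)) n) :
    EtLim.HofPush (pr Xs c i) S.G n (y.comp (Ext.mk₀ (bmap h (S.a j))) (add_zero n)) =
      S.A j n (EtLim.HofPush (uM Xs h) (S.F j) n y) := by
  rw [A, ← HofPush_comp, bmap, ← Ext.mk₀_comp_mk₀, ← Ext.comp_assoc_of_third_deg_zero]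
  exact HofPush_pc (uM Xs h) (pr Xs c j) (pr Xs c i) (pr_w h) S.G n _

lemma A_T {i j : ι} (h : i ≤ j) (n : ℕ) (x : EtCoh.H (Xs.obj (op i)) (S.F i) n) :
    S.A j n (S.T h n x) = S.A i n x := by
  rw [T, ← A_bmap, Ext.comp_assoc_of_third_deg_zero, Ext.mk₀_comp_mk₀, S.fac h]
  rfl

lemma T_T {i j k : ι} (h₁ : i ≤ j) (h₂ : j ≤ k) (n : ℕ) (x : EtCoh.H (Xs.obj (op i)) (S.F i) n) :
    S.T h₂ n (S.T h₁ n x) = S.T (h₁.trans h₂) n x := by
  rw [T, T, T, ← HofPush_comp, S.cocycle h₁ h₂, ← Ext.mk₀_comp_mk₀, ← Ext.mk₀_comp_mk₀,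
    ← Ext.comp_assoc_of_third_deg_zero, ← Ext.comp_assoc_of_third_deg_zero]
  exact (HofPush_pc (uM Xs h₁) (uM Xs h₂) _ (uM_comp h₁ h₂) (S.F k) n _).symm

lemma T_sub {i j : ι} (h : i ≤ j) (n : ℕ) (x y : EtCoh.H (Xs.obj (op i)) (S.F i) n) :
    S.T h n (x - y) = S.T h n x - S.T h n y := by
  unfold T
  rw [ExtColim.sub_comp, map_sub]

lemma T_zero {i j : ι} (h : i ≤ j) (n : ℕ) : S.T h n 0 = 0 := by
  unfold T
  rw [Ext.zero_comp, map_zero]

lemma A_sub {i : ι} (n : ℕ) (x y : EtCoh.H (Xs.obj (op i)) (S.F i) n) :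
    S.A i n (x - y) = S.A i n x - S.A i n y := by
  unfold A
  rw [ExtColim.sub_comp, map_sub]

/-- Comparison of cohomology in degree `n`. -/
def Good (n : ℕ) : Prop :=
  (∀ ξ : EtCoh.H c.pt S.G n, ∃ (i : ι) (x : EtCoh.H (Xs.obj (op i)) (S.F i) n), S.A i n x = ξ) ∧
    ∀ (i : ι) (x : EtCoh.H (Xs.obj (op i)) (S.F i) n), S.A i n x = 0 → ∃ (j : ι) (h : i ≤ j), S.T h n x = 0

end Sys

variable (Xs c)

/-- The system of direct images of a sheaf on the limit. -/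
noncomputable abbrev can (G : EtCoh.Ab c.pt) : Sys Xs c where
  F i := (EtCoh.push (pr Xs c i)).obj G
  G := G
  a i := 𝟙 _
  t i j h := (pc (pr Xs c j) (uM Xs h) (pr Xs c i) (pr_w h)).inv.app G
  fac i j h := by
    simp [bmap]
  cocycle i j k h₁ h₂ := by
    have hA := pc_assoc (pr Xs c k) (uM Xs h₂) (uM Xs h₁) (pr Xs c j) (uM Xs (h₁.trans h₂)) (pr Xs c i)
      (pr_w h₂) (uM_comp h₁ h₂) (pr_w h₁) (pr_w (h₁.trans h₂)) G
    rw [← cancel_mono ((pc (pr Xs c k) (uM Xs (h₁.trans h₂)) (pr Xs c i) (pr_w (h₁.trans h₂))).hom.app G)]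
    simp only [tcomp, Category.assoc, Iso.inv_hom_id_app]
    erw [← hA, ← Functor.map_comp_assoc, Iso.inv_hom_id_app]
    simp

/-- A system of subsheaves of the direct images. -/
noncomputable abbrev Sys.ofMono (F : ∀ i : ι, EtCoh.Ab (Xs.obj (op i))) (G : EtCoh.Ab c.pt)
    (a : ∀ i, F i ⟶ (EtCoh.push (pr Xs c i)).obj G) [∀ i, Mono (a i)]
    (t : ∀ ⦃i j : ι⦄ (h : i ≤ j), F i ⟶ (EtCoh.push (uM Xs h)).obj (F j))
    (fac : ∀ ⦃i j : ι⦄ (h : i ≤ j), t h ≫ bmap h (a j) = a i) : Sys Xs c where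
  F := F
  G := G
  a := a
  t := t
  fac := fac
  cocycle i j k h₁ h₂ := by
    rw [← cancel_mono (bmap (h₁.trans h₂) (a k)), fac, Category.assoc, Category.assoc, bmap_comp,
      ← Functor.map_comp_assoc, fac]
    exact (fac h₁).symm

section Kill

variable {Xs c}
variable [IsDirected ι (· ≤ ·)] [∀ i : ι, CompactSpace ↥(Xs.obj (op i))]
  [∀ i : ι, QuasiSeparatedSpace ↥(Xs.obj (op i))]
  [∀ a, PreservesFiniteLimits (EtCoh.pull (c.π.app a))]
  [∀ ⦃a b : ιᵒᵖ⦄ (h : a ⟶ b), PreservesFiniteLimits (EtCoh.pull (Xs.map h))]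

lemma exists_sec_kernel {Y : Scheme.{u}} {M N : EtCoh.Ab Y} (f : M ⟶ N) (V : Y.Etale) (s : M.obj.obj (op V))
    (hs : f.hom.app (op V) s = 0) : ∃ y : (kernel f).obj.obj (op V), (kernel.ι f).hom.app (op V) y = s := by
  haveI : (EtColim.secFun V).Additive := { }
  haveI : PreservesFiniteLimits (EtColim.secFun V) := by
    unfold EtColim.secFun
    exact comp_preservesFiniteLimits _ _
  have h := (ShortComplex.exact_of_f_is_kernel (ShortComplex.mk (kernel.ι f) f (kernel.condition f))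
    (kernelIsKernel f)).map_of_mono_of_preservesKernel (EtColim.secFun V) inferInstance inferInstance
  exact (ShortComplex.ab_exact_iff _).1 h s hs

lemma injective_app_of_mono {Y : Scheme.{u}} {M N : EtCoh.Ab Y} (f : M ⟶ N) [Mono f] (V : Y.Etale) :
    Function.Injective (f.hom.app (op V)) := by
  haveI : Mono ((sheafToPresheaf _ _).map f) := inferInstance
  haveI : Mono (f.hom.app (op V)) := (NatTrans.mono_iff_mono_app _).1 (this : Mono f.hom) (op V)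
  exact (AddCommGrpCat.mono_iff_injective _).1 inferInstance

/-- The stages after a given one. -/
abbrev After (i : ι) : Type u := {j : ι // i ≤ j}

instance (i : ι) : IsDirected (After i) (· ≤ ·) :=
  ⟨fun a b => by
    obtain ⟨k, hk, hk'⟩ := directed_of (· ≤ ·) a.1 b.1
    exact ⟨⟨k, a.2.trans hk⟩, hk, hk'⟩⟩

instance (i : ι) : Nonempty (After i) := ⟨⟨i, le_rfl⟩⟩

/-- The kernel to the limit. -/
noncomputable abbrev ker (S : Sys Xs c) (i : ι) : EtCoh.Ab (Xs.obj (op i)) := kernel (S.a i)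

/-- Transition of the kernels to the limit. -/
noncomputable def kerT (S : Sys Xs c) {i j : ι} (h : i ≤ j) :
    ker S i ⟶ (EtCoh.push (uM Xs h)).obj (ker S j) :=
  haveI := (EtCoh.pullPushAdj (uM Xs h)).isRightAdjoint
  kernel.lift ((EtCoh.push (uM Xs h)).map (S.a j)) (kernel.ι (S.a i) ≫ S.t h) (by
    rw [← cancel_mono ((pc (pr Xs c j) (uM Xs h) (pr Xs c i) (pr_w h)).hom.app S.G), zero_comp, Category.assoc,
      Category.assoc]
    exact (congrArg (kernel.ι (S.a i) ≫ ·) (S.fac h)).trans (kernel.condition _)) ≫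
    (PreservesKernel.iso (EtCoh.push (uM Xs h)) (S.a j)).inv

lemma kerT_ι (S : Sys Xs c) {i j : ι} (h : i ≤ j) :
    kerT S h ≫ (EtCoh.push (uM Xs h)).map (kernel.ι (S.a j)) = kernel.ι (S.a i) ≫ S.t h := by
  haveI := (EtCoh.pullPushAdj (uM Xs h)).isRightAdjoint
  simp [kerT]

/-- Classes with values in the kernels die. -/
theorem kill (S : Sys Xs c) (hS : S.IsLim) (i : ι) (n : ℕ) (x : EtCoh.H (Xs.obj (op i)) (ker S i) n) :
    ∃ (j : ι) (h : i ≤ j), EtLim.HofPush (uM Xs h) (ker S j) n (x.comp (Ext.mk₀ (kerT S h)) (add_zero n)) = 0 := by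
  let f : ∀ l : After i, ker S i ⟶ (EtCoh.push (uM Xs l.2)).obj (S.F l.1) := fun l => kernel.ι (S.a i) ≫ S.t l.2
  have hf : ∀ ⦃l l' : After i⦄ (h : l ≤ l'), kernel.ι (f l) ≫ f l' = 0 := fun l l' h => by
    have e : S.t l'.2 = S.t l.2 ≫ (EtCoh.push (uM Xs l.2)).map (S.t h) ≫ tcomp l.2 h (S.F l'.1) :=
      S.cocycle l.2 h
    show kernel.ι (f l) ≫ kernel.ι (S.a i) ≫ S.t l'.2 = 0
    rw [e, ← Category.assoc (kernel.ι (S.a i)), ← Category.assoc (kernel.ι (f l))]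
    rw [show kernel.ι (f l) ≫ kernel.ι (S.a i) ≫ S.t l.2 = 0 from kernel.condition (f l), zero_comp]
  have hu := union_surj_inj (fun l => kernel (f l)) (fun l => kernel.ι (f l))
    (fun l l' h => kernel.lift (f l') (kernel.ι (f l)) (hf h)) (fun l l' h => kernel.lift_ι _ _ _)
    (fun V hV hV' s => by
      obtain ⟨j, h, hj⟩ := hS.inj i V hV hV' ((kernel.ι (S.a i)).hom.app (op V) s)
        (congrArg (fun t : ker S i ⟶ _ => t.hom.app (op V) s) (kernel.condition (S.a i)))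
      obtain ⟨y, hy⟩ := exists_sec_kernel (f ⟨j, h⟩) V s hj
      exact ⟨_, y, hy⟩) n
  obtain ⟨⟨j, h⟩, y, rfl⟩ := hu.1 x
  refine ⟨j, h, ?_⟩
  have h0 : kernel.ι (f ⟨j, h⟩) ≫ kerT S h = 0 := by
    rw [← cancel_mono ((EtCoh.push (uM Xs h)).map (kernel.ι (S.a j))), Category.assoc, kerT_ι, zero_comp]
    exact kernel.condition (f ⟨j, h⟩)
  rw [Ext.comp_assoc_of_third_deg_zero, Ext.mk₀_comp_mk₀, h0, Ext.mk₀_zero, Ext.comp_zero, map_zero]

end Kill

end Groth.Agent.EtLim24
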